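import Mathlib.CategoryTheory.Abelian.Refinements
import Mathlib.Algebra.Homology.ShortComplex.ExactFunctor
import Mathlib.CategoryTheory.Abelian.DiagramLemmas.Four
import Mathlib.CategoryTheory.Abelian.GrothendieckAxioms.Basic
import Mathlib.CategoryTheory.Limits.Preserves.Finite

/-!
# Flatness relative to a bifunctor of abelian categories

`T : A ⥤ B ⥤ D` additive in each variable and right exact in each variable.
`FlatR T N`: the functor `T(-, N)` preserves monomorphisms; `FlatL T M`: `T(M, -)` preserves monomorphisms.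
-/

set_option autoImplicit false

universe w' w v₁ v₂ v₃ u₁ u₂ u₃

namespace K294.AbsFlat

open CategoryTheory Category Limits

variable {A : Type u₁} {B : Type u₂} {D : Type u₃} [Category.{v₁} A] [Category.{v₂} B] [Category.{v₃} D]

section

variable (T : A ⥤ B ⥤ D)

/-- `T(-, N)` preserves monomorphisms -/
def FlatR (N : B) : Prop := ∀ ⦃X Y : A⦄ (f : X ⟶ Y), Mono f → Mono ((T.map f).app N)

/-- `T(M, -)` preserves monomorphisms -/
def FlatL (M : A) : Prop := ∀ ⦃X Y : B⦄ (f : X ⟶ Y), Mono f → Mono ((T.obj M).map f)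

variable {T}

lemma FlatR.of_iso {N N' : B} (e : N ≅ N') (h : FlatR T N) : FlatR T N' := by
  intro X Y f hf
  have := h f hf
  have e1 : (T.map f).app N' = (T.obj X).map e.inv ≫ (T.map f).app N ≫ (T.obj Y).map e.hom := by
    rw [← (T.map f).naturality e.hom, ← Functor.map_comp_assoc, e.inv_hom_id]
    simp
  rw [e1]
  infer_instance

lemma FlatL.of_iso {M M' : A} (e : M ≅ M') (h : FlatL T M) : FlatL T M' := by
  intro X Y f hf
  have := h f hf
  have e1 : (T.obj M').map f = (T.map e.inv).app X ≫ (T.obj M).map f ≫ (T.map e.hom).app Y := by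
    rw [(T.map e.hom).naturality f, ← NatTrans.comp_app_assoc, ← Functor.map_comp, e.inv_hom_id]
    simp
  rw [e1]
  infer_instance

end

variable [Abelian A] [Abelian B] [Abelian D]

/-- A right exact functor which preserves monomorphisms preserves finite limits. -/
lemma preservesFiniteLimits_of_mono (F : A ⥤ D) [F.Additive] [PreservesFiniteColimits F]
    (h : ∀ ⦃X Y : A⦄ (f : X ⟶ Y), Mono f → Mono (F.map f)) : PreservesFiniteLimits F := by
  have h1 := F.preservesFiniteLimits_tfae.out 0 3
  have h2 := F.preservesFiniteColimits_tfae.out 3 0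
  refine h1.1 (fun S hS => ⟨?_, h _ hS.mono_f⟩)
  exact (h2.1 inferInstance S hS).1

/-- right exactness of a functor on a short exact sequence -/
lemma exact_epi (F : A ⥤ D) [F.Additive] [PreservesFiniteColimits F] {S : ShortComplex A} (hS : S.ShortExact) :
    (S.map F).Exact ∧ Epi (F.map S.g) := by
  have h2 := F.preservesFiniteColimits_tfae.out 3 0
  exact h2.1 inferInstance S hS

/-- exactness in terms of elements up to refinements -/
lemma refine_exact (F : A ⥤ D) [F.PreservesZeroMorphisms] {S : ShortComplex A} (h : (S.map F).Exact) {Y : D}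
    (x : Y ⟶ F.obj S.X₂) (hx : x ≫ F.map S.g = 0) :
    ∃ (Y' : D) (π : Y' ⟶ Y) (_ : Epi π) (x' : Y' ⟶ F.obj S.X₁), π ≫ x = x' ≫ F.map S.f :=
  h.exact_up_to_refinements x hx

section SES

variable (T : A ⥤ B ⥤ D) [T.Additive] [∀ X, (T.obj X).Additive]

instance flip_obj_additive (M : B) : (T.flip.obj M).Additive where
  map_add {X Y f g} := by simp

instance flip_additive : T.flip.Additive where
  map_add {M N f g} := by
    ext L
    exact (T.obj L).map_add

variable {T}

/-- **Balancing.**  `0 → N₁ → N₂ → N₃ → 0` short exact with `N₃` right flat, `P → M` an epimorphism with `P` left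
flat: then `T(M, N₁) → T(M, N₂)` is a monomorphism. -/
theorem mono_of_flatR {S : ShortComplex B} (hS : S.ShortExact) (h3 : FlatR T S.X₃)
    [∀ N : B, PreservesFiniteColimits (T.flip.obj N)] [∀ M : A, PreservesFiniteColimits (T.obj M)]
    {P M : A} (p : P ⟶ M) [Epi p] (hP : FlatL T P) : Mono ((T.obj M).map S.f) := by
  have hR : (ShortComplex.mk (kernel.ι p) p (kernel.condition p)).ShortExact :=
    { exact := ShortComplex.exact_of_f_is_kernel _ (kernelIsKernel p)
      mono_f := inferInstanceAs (Mono (kernel.ι p))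
      epi_g := inferInstanceAs (Epi p) }
  have hmP : Mono ((T.obj P).map S.f) := hP _ hS.mono_f
  have hmK : Mono ((T.map (kernel.ι p)).app S.X₃) := h3 _ inferInstance
  have hcok (N : B) := exact_epi (T.flip.obj N) hR
  have hepi : Epi ((T.map p).app S.X₁) := (hcok S.X₁).2
  have hK := exact_epi (T.obj (kernel p)) hS
  rw [Preadditive.mono_iff_cancel_zero]
  intro Y y hy
  obtain ⟨Y₁, π₁, _, z, hz⟩ := surjective_up_to_refinements_of_epi ((T.map p).app S.X₁) y
  have hc2 : ∀ {Y : D} (x : Y ⟶ (T.obj P).obj S.X₂) (hx : x ≫ (T.map p).app S.X₂ = 0),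
      ∃ (Y' : D) (π : Y' ⟶ Y) (_ : Epi π) (x' : Y' ⟶ (T.obj (kernel p)).obj S.X₂),
        π ≫ x = x' ≫ (T.map (kernel.ι p)).app S.X₂ :=
    fun x hx => refine_exact (T.flip.obj S.X₂) (hcok S.X₂).1 x hx
  obtain ⟨Y₂, π₂, _, w, hw⟩ := hc2 (z ≫ (T.obj P).map S.f) (by
    have h1 := (T.map p).naturality S.f
    rw [assoc, h1, ← assoc, ← hz, assoc, hy, comp_zero])
  have hw' : w ≫ (T.obj (kernel p)).map S.g = 0 := by
    rw [← cancel_mono ((T.map (kernel.ι p)).app S.X₃), assoc, (T.map (kernel.ι p)).naturality S.g,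
      ← assoc, ← hw, zero_comp, assoc, assoc, ← Functor.map_comp, S.zero, Functor.map_zero, comp_zero, comp_zero]
  obtain ⟨Y₃, π₃, _, v, hv⟩ := refine_exact (T.obj (kernel p)) hK.1 w hw'
  have h5 : π₃ ≫ π₂ ≫ z = v ≫ (T.map (kernel.ι p)).app S.X₁ := by
    rw [← cancel_mono ((T.obj P).map S.f), assoc, assoc, hw, ← assoc, hv, assoc,
      (T.map (kernel.ι p)).naturality S.f, assoc]
  have h6 : (π₃ ≫ π₂ ≫ π₁) ≫ y = 0 := by
    rw [assoc, assoc, hz, ← assoc π₂, ← assoc π₃, h5, assoc, ← NatTrans.comp_app, ← Functor.map_comp,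
      kernel.condition, Functor.map_zero]
    simp
  have : Epi (π₃ ≫ π₂ ≫ π₁) := inferInstance
  rwa [← cancel_epi (π₃ ≫ π₂ ≫ π₁), comp_zero]

/-- If every object of `A` is a quotient of a left flat object, short exact sequences in `B` with right flat
third term are preserved by `T(M, -)`. -/
theorem shortExact_of_flatR {S : ShortComplex B} (hS : S.ShortExact) (h3 : FlatR T S.X₃)
    [∀ N : B, PreservesFiniteColimits (T.flip.obj N)] [∀ M : A, PreservesFiniteColimits (T.obj M)]
    (hen : ∀ M : A, ∃ (P : A) (p : P ⟶ M), Epi p ∧ FlatL T P) (M : A) : (S.map (T.obj M)).ShortExact := by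
  obtain ⟨P, p, hp, hP⟩ := hen M
  exact { exact := (exact_epi (T.obj M) hS).1
          mono_f := mono_of_flatR hS h3 p hP
          epi_g := (exact_epi (T.obj M) hS).2 }

/-- The middle term is right flat if the outer ones are. -/
theorem flatR₂ {S : ShortComplex B} (hS : S.ShortExact) (h1 : FlatR T S.X₁) (h3 : FlatR T S.X₃)
    [∀ N : B, PreservesFiniteColimits (T.flip.obj N)] [∀ M : A, PreservesFiniteColimits (T.obj M)]
    (hen : ∀ M : A, ∃ (P : A) (p : P ⟶ M), Epi p ∧ FlatL T P) : FlatR T S.X₂ := by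
  intro M M' f hf
  have hM := shortExact_of_flatR hS h3 hen M
  have hM' := shortExact_of_flatR hS h3 hen M'
  have m1 := h1 f hf
  have m3 := h3 f hf
  rw [Preadditive.mono_iff_cancel_zero]
  intro Y y hy
  have hy3 : y ≫ (T.obj M).map S.g = 0 := by
    rw [← cancel_mono ((T.map f).app S.X₃), assoc, (T.map f).naturality S.g, ← assoc, hy, zero_comp, zero_comp]
  have hm' : Mono ((T.obj M').map S.f) := hM'.mono_f
  obtain ⟨Y₁, π₁, _, z, hz⟩ := refine_exact (T.obj M) hM.exact y hy3
  have hz0 : z = 0 := by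
    rw [← cancel_mono ((T.map f).app S.X₁), ← cancel_mono ((T.obj M').map S.f), zero_comp, zero_comp, assoc,
      ← (T.map f).naturality S.f, ← assoc, ← hz, assoc, hy, comp_zero]
  rw [hz0, zero_comp] at hz
  rwa [← cancel_epi π₁, comp_zero]

/-- The left term is right flat if the two others are. -/
theorem flatR₁ {S : ShortComplex B} (hS : S.ShortExact) (h2 : FlatR T S.X₂) (h3 : FlatR T S.X₃)
    [∀ N : B, PreservesFiniteColimits (T.flip.obj N)] [∀ M : A, PreservesFiniteColimits (T.obj M)]
    (hen : ∀ M : A, ∃ (P : A) (p : P ⟶ M), Epi p ∧ FlatL T P) : FlatR T S.X₁ := by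
  intro M M' f hf
  have hM := (shortExact_of_flatR hS h3 hen M).mono_f
  have m2 := h2 f hf
  have : Mono ((T.obj M).map S.f) := hM
  have : Mono ((T.map f).app S.X₁ ≫ (T.obj M').map S.f) := by
    rw [← (T.map f).naturality S.f]
    infer_instance
  exact mono_of_mono _ ((T.obj M').map S.f)

end SES

section Colim

omit [Abelian A] [Abelian B] in

/-- colimits of right flat objects are right flat if colimits of that shape are exact. -/
theorem flatR_of_isColimit {T : A ⥤ B ⥤ D} {J : Type w} [Category.{w'} J] [HasColimitsOfShape J B] [HasColimitsOfShape J D]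
    [HasExactColimitsOfShape J D] [∀ M : A, PreservesColimitsOfShape J (T.obj M)]
    {K : J ⥤ B} {c : Cocone K} (hc : IsColimit c) (h : ∀ j, FlatR T (K.obj j)) : FlatR T c.pt := by
  intro M M' f hf
  let τ : K ⋙ T.obj M ⟶ K ⋙ T.obj M' := Functor.whiskerLeft K (T.map f)
  have : ∀ j, Mono (τ.app j) := fun j => h j f hf
  have : Mono τ := NatTrans.mono_of_mono_app τ
  have hM := isColimitOfPreserves (T.obj M) hc
  have hM' := isColimitOfPreserves (T.obj M') hc
  have h1 : Mono (colim.map τ) := inferInstance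
  have h2 : (T.map f).app c.pt = (hM.coconePointUniqueUpToIso (colimit.isColimit _)).hom ≫ colim.map τ ≫
      (hM'.coconePointUniqueUpToIso (colimit.isColimit _)).inv := by
    refine hM.hom_ext (fun j => ?_)
    rw [← assoc, ← assoc, IsColimit.comp_coconePointUniqueUpToIso_hom]
    dsimp
    simp [τ]
  rw [h2]
  infer_instance

end Colim

end K294.AbsFlat
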