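import Groth.Prelude.Def_KFlatSite
import Groth.Agent.ModSite.K291.Colim
import Groth.Agent.ModSite.K294.AbsFlat
import Mathlib.Algebra.Category.ModuleCat.Presheaf.Free
import Mathlib.Algebra.Category.ModuleCat.Presheaf.EpiMono
import Mathlib.RingTheory.Flat.Basic
import Mathlib.LinearAlgebra.FreeModule.Basic

/-!
# Flat modules on a ringed site

* `isFlat_iff_flatR`: `F` is flat iff `- ⊗ F` preserves monomorphisms;
* `isFlat_shP`: the sheafification of a sectionwise flat presheaf of modules is flat;
* `exists_flat_epi`: enough flat modules;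
* exactness of `G ⊗ -` on short exact sequences with flat third term; two out of three; colimits; tensor products.
-/

set_option autoImplicit false

universe w w' u

namespace K294.Flat

open CategoryTheory Category Limits MonoidalCategory Opposite
open K291.Mon K291.Colim K294.AbsFlat

variable {C : Type u} [SmallCategory C] {J : GrothendieckTopology C} {O : Sheaf J CommRingCat.{u}}

lemma isFlat_iff_flatR (F : ModSite.Mod O) : ModSite.IsFlat F ↔ FlatR (ModSite.tensorBi O) F := by
  constructor
  · rintro ⟨h, _⟩ X Y f hf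
    exact inferInstanceAs (Mono (((ModSite.tensorBi O).flip.obj F).map f))
  · intro h
    exact ⟨preservesFiniteLimits_of_mono ((ModSite.tensorBi O).flip.obj F) h, inferInstance⟩

lemma isFlat_iff_flatL (F : ModSite.Mod O) : ModSite.IsFlat F ↔ FlatL (ModSite.tensorBi O) F := by
  rw [isFlat_iff_flatR]
  have key : ∀ {X Y : ModSite.Mod O} (f : X ⟶ Y),
      Mono (((ModSite.tensorBi O).obj F).map f) ↔ Mono (((ModSite.tensorBi O).map f).app F) := fun f =>
    (MorphismProperty.monomorphisms _).arrow_mk_iso_iff
      (((Functor.mapArrowFunctor _ _).mapIso (objIsoFlip O F)).app (Arrow.mk f))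
  exact ⟨fun h X Y f hf => (key f).2 (h f hf), fun h X Y f hf => (key f).1 (h f hf)⟩

lemma isFlat_of_iso {F G : ModSite.Mod O} (e : F ≅ G) (h : ModSite.IsFlat F) : ModSite.IsFlat G := by
  rw [isFlat_iff_flatR] at h ⊢
  exact h.of_iso e

lemma preservesHomology_flip (F : ModSite.Mod O) (h : ModSite.IsFlat F) :
    ((ModSite.tensorBi O).flip.obj F).PreservesHomology := by
  have := h.1
  have := h.2
  infer_instance

lemma preservesFiniteLimits_obj (F : ModSite.Mod O) (h : ModSite.IsFlat F) :
    PreservesFiniteLimits ((ModSite.tensorBi O).obj F) := by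
  have := h.1
  exact preservesFiniteLimits_of_natIso (objIsoFlip O F).symm

lemma preservesHomology_obj (F : ModSite.Mod O) (h : ModSite.IsFlat F) :
    ((ModSite.tensorBi O).obj F).PreservesHomology := by
  have := preservesFiniteLimits_obj F h
  infer_instance

/-- `- ⊗ sh P` is the sheafification of `toP - ⊗ P`. -/
noncomputable def tensorShIso (P : PM O) :
    tensorRight ((shP O).obj P) ≅ toP O ⋙ tensorRight P ⋙ shP O :=
  (Functor.leftUnitor _).symm ≪≫
    Functor.isoWhiskerRight (asIso (shAdj O).counit).symm (tensorRight ((shP O).obj P)) ≪≫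
    Functor.associator _ _ _ ≪≫
    Functor.isoWhiskerLeft (toP O) (NatIso.ofComponents (fun Q => Functor.Monoidal.μIso (shP O) Q P)
      (fun f => Functor.LaxMonoidal.μ_natural_left (shP O) f P))

instance preservesFiniteLimits_shP : PreservesFiniteLimits (shP O) :=
  inferInstanceAs (PreservesFiniteLimits (PresheafOfModules.sheafification (𝟙 (ModSite.ringSh O).obj)))

/-- The sheafification of a sectionwise flat presheaf of modules is flat. -/
theorem isFlat_shP (P : PM O) (hP : ∀ U : Cᵒᵖ, Module.Flat (O.obj.obj U) (P.obj U)) :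
    ModSite.IsFlat ((shP O).obj P) := by
  rw [isFlat_iff_flatR]
  intro F G f hf
  have h1 : Mono ((toP O).map f) := inferInstance
  have h2 : Mono ((tensorRight P).map ((toP O).map f)) := by
    apply PresheafOfModules.mono_of_injective
    intro U
    have h3 : Function.Injective (((toP O).map f).app U) := PresheafOfModules.injective_of_mono _ U
    have h4 : Module.Flat (O.obj.obj U) (P.obj U) := hP U
    exact Module.Flat.rTensor_preserves_injective_linearMap (R := O.obj.obj U) (M := P.obj U)
      (Groth.Agent.Dcoh.MonW.sec ((toP O).map f) U) h3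
  have h5 : Mono ((toP O ⋙ tensorRight P ⋙ shP O).map f) :=
    inferInstanceAs (Mono ((shP O).map ((tensorRight P).map ((toP O).map f))))
  exact ((MorphismProperty.monomorphisms _).arrow_mk_iso_iff
      (((Functor.mapArrowFunctor _ _).mapIso (tensorShIso P)).app (Arrow.mk f))).2 h5

/-- The free presheaf of modules on the underlying presheaf of sets. -/
noncomputable def freeCover (F : ModSite.Mod O) : PM O :=
  (PresheafOfModules.free (ModSite.ringSh O).obj).obj (((toP O).obj F).presheaf ⋙ forget _)

noncomputable def freeCoverπ (F : ModSite.Mod O) : freeCover F ⟶ (toP O).obj F :=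
  (PresheafOfModules.freeAdjunction (ModSite.ringSh O).obj).counit.app ((toP O).obj F)

lemma flat_freeCover (F : ModSite.Mod O) (U : Cᵒᵖ) : Module.Flat (O.obj.obj U) ((freeCover F).obj U) := by
  have : Module.Free (O.obj.obj U) ((freeCover F).obj U) :=
    inferInstanceAs (Module.Free (O.obj.obj U) (((toP O).obj F).obj U →₀ O.obj.obj U))
  infer_instance

instance epi_freeCoverπ (F : ModSite.Mod O) : Epi (freeCoverπ F) := by
  have : (PresheafOfModules.toPresheaf (ModSite.ringSh O).obj ⋙
      (Functor.whiskeringRight _ _ _).obj (forget Ab.{u})).Faithful := inferInstance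
  exact inferInstanceAs (Epi ((PresheafOfModules.freeAdjunction (ModSite.ringSh O).obj).counit.app _))

/-- Every module is a quotient of a flat module. -/
theorem exists_flat_epi (F : ModSite.Mod O) :
    ∃ (G : ModSite.Mod O) (π : G ⟶ F), ModSite.IsFlat G ∧ Epi π := by
  refine ⟨(shP O).obj (freeCover F), (shP O).map (freeCoverπ F) ≫ (shAdj O).counit.app F,
    isFlat_shP _ (flat_freeCover F), ?_⟩
  have : IsIso ((shAdj O).counit.app F) := inferInstance
  have : Epi ((shP O).map (freeCoverπ F)) := inferInstance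
  infer_instance

lemma enough (M : ModSite.Mod O) :
    ∃ (P : ModSite.Mod O) (p : P ⟶ M), Epi p ∧ FlatL (ModSite.tensorBi O) P := by
  obtain ⟨P, p, h1, h2⟩ := exists_flat_epi M
  exact ⟨P, p, h2, (isFlat_iff_flatL P).1 h1⟩

section SES

variable {S : ShortComplex (ModSite.Mod O)} (hS : S.ShortExact)

include hS

/-- A short exact sequence with flat third term stays short exact after applying `G ⊗ -`. -/
theorem shortExact_tensor_obj (h3 : ModSite.IsFlat S.X₃) (G : ModSite.Mod O) :
    (S.map ((ModSite.tensorBi O).obj G)).ShortExact :=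
  shortExact_of_flatR hS ((isFlat_iff_flatR _).1 h3) enough G

/-- A short exact sequence with flat third term stays short exact after applying `- ⊗ G`. -/
theorem shortExact_tensor_flip (h3 : ModSite.IsFlat S.X₃) (G : ModSite.Mod O)
    [((ModSite.tensorBi O).flip.obj G).PreservesZeroMorphisms] :
    (S.map ((ModSite.tensorBi O).flip.obj G)).ShortExact :=
  ShortComplex.shortExact_of_iso (S.mapNatIso (objIsoFlip O G)) (shortExact_tensor_obj hS h3 G)

theorem isFlat₂ (h1 : ModSite.IsFlat S.X₁) (h3 : ModSite.IsFlat S.X₃) : ModSite.IsFlat S.X₂ := by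
  rw [isFlat_iff_flatR] at h1 h3 ⊢
  exact flatR₂ hS h1 h3 enough

theorem isFlat₁ (h2 : ModSite.IsFlat S.X₂) (h3 : ModSite.IsFlat S.X₃) : ModSite.IsFlat S.X₁ := by
  rw [isFlat_iff_flatR] at h2 h3 ⊢
  exact flatR₁ hS h2 h3 enough

end SES

section Colim

instance preservesColimits₀_obj (M : ModSite.Mod O) :
    PreservesColimitsOfSize.{0, 0} ((ModSite.tensorBi O).obj M) :=
  preservesColimitsOfSize_shrink.{0, u, 0, u} _

instance preservesColimits₀_flip_obj (M : ModSite.Mod O) :
    PreservesColimitsOfSize.{0, 0} ((ModSite.tensorBi O).flip.obj M) :=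
  preservesColimitsOfSize_shrink.{0, u, 0, u} _

instance preservesColimits₀_flip_flip_obj (M : ModSite.Mod O) :
    PreservesColimitsOfSize.{0, 0} ((ModSite.tensorBi O).flip.flip.obj M) :=
  preservesColimits₀_obj M

instance ab5 : AB5OfSize.{u, u} (ModSite.Mod O) :=
  have := isGrothendieckAbelian O
  IsGrothendieckAbelian.ab5OfSize

instance hasExactColimitsOfShape_nat : HasExactColimitsOfShape ℕ (ModSite.Mod O) := by
  have := AB5OfSize_of_univLE.{0, 0, u, u} (ModSite.Mod O)
  exact AB5OfSize.ofShape ℕ

instance countableAB4 : CountableAB4 (ModSite.Mod O) := by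
  have : HasFiniteBiproducts (ModSite.Mod O) := Abelian.hasFiniteBiproducts
  exact CountableAB4.of_countableAB5 (ModSite.Mod O)

theorem isFlat_of_isColimit {I : Type w} [Category.{w'} I] [HasColimitsOfShape I (ModSite.Mod O)]
    [HasExactColimitsOfShape I (ModSite.Mod O)]
    [∀ M : ModSite.Mod O, PreservesColimitsOfShape I ((ModSite.tensorBi O).obj M)]
    {K : I ⥤ ModSite.Mod O} {c : Cocone K} (hc : IsColimit c) (h : ∀ j, ModSite.IsFlat (K.obj j)) :
    ModSite.IsFlat c.pt := by
  rw [isFlat_iff_flatR]
  exact flatR_of_isColimit hc (fun j => (isFlat_iff_flatR _).1 (h j))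

lemma isFlat_colimit_nat (K : ℕ ⥤ ModSite.Mod O) (h : ∀ n, ModSite.IsFlat (K.obj n)) :
    ModSite.IsFlat (colimit K) :=
  isFlat_of_isColimit (colimit.isColimit K) h

instance hasExactColimitsOfShape_discrete (ι : Type u) :
    HasExactColimitsOfShape (Discrete ι) (ModSite.Mod O) := by
  have : HasFiniteBiproducts (ModSite.Mod O) := Abelian.hasFiniteBiproducts
  have : AB4OfSize.{u} (ModSite.Mod O) := AB4.of_AB5 (ModSite.Mod O)
  exact AB4OfSize.ofShape ι

theorem isFlat_cofan {ι : Type u} (F : ι → ModSite.Mod O) (hF : ∀ i, ModSite.IsFlat (F i)) (c : Cofan F)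
    (hc : IsColimit c) : ModSite.IsFlat c.pt :=
  isFlat_of_isColimit hc (fun j => hF j.as)

theorem isFlat_biprod {M N : ModSite.Mod O} (hM : ModSite.IsFlat M) (hN : ModSite.IsFlat N) :
    ModSite.IsFlat (M ⊞ N) :=
  isFlat₂ (S := ShortComplex.mk (biprod.inl : M ⟶ M ⊞ N) (biprod.snd : M ⊞ N ⟶ N) (by simp))
    (ShortComplex.Splitting.ofHasBinaryBiproduct M N).shortExact hM hN

end Colim

/-- The tensor product of two flat modules is flat. -/
theorem isFlat_tensor (G F : ModSite.Mod O) (hG : ModSite.IsFlat G) (hF : ModSite.IsFlat F) :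
    ModSite.IsFlat (((ModSite.tensorBi O).obj G).obj F) := by
  rw [isFlat_iff_flatR] at hG hF ⊢
  intro X Y f hf
  have h1 : Mono (f ▷ G) := hG f hf
  have h2 : Mono ((f ▷ G) ▷ F) := hF (f ▷ G) h1
  have h3 : f ▷ (G ⊗ F) = (α_ X G F).inv ≫ (f ▷ G) ▷ F ≫ (α_ Y G F).hom := by simp
  have h4 : Mono (f ▷ (G ⊗ F)) := by
    rw [h3]
    infer_instance
  exact h4

end K294.Flat
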