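import Groth.Agent.ModSite.K294.KFl
import Groth.Agent.ModSite.K294.Flat
import Groth.Agent.Dcoh.KFlatZd
import Groth.Agent.Dcoh.KFlatSES
import Groth.Agent.Dcoh.BiNat
import Mathlib.Algebra.Homology.BifunctorAssociator

/-!
# K-flat complexes of modules on a ringed site

bounded above complexes of flat modules, sequential colimits, factorizations, resolutions, short exact sequences,
symmetry and associativity of the tensor product of complexes, tensor products of K-flat complexes.
-/

set_option autoImplicit false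
set_option backward.defeqAttrib.useBackward true
set_option backward.isDefEq.respectTransparency false

universe u

namespace K294.KFlat2

open CategoryTheory Category Limits HomologicalComplex CochainComplex MonoidalCategory
open Groth.Agent.Dcoh Groth.Agent.Dcoh.KFlatAbs Groth.Agent.Dcoh.CellStep K294.Flat K294.KFl
open scoped K291.Mon

variable {C : Type u} [SmallCategory C] {J : GrothendieckTopology C} {O : Sheaf J CommRingCat.{u}}

/-- flat modules as an object property -/
def flatP (O : Sheaf J CommRingCat.{u}) : ObjectProperty (ModSite.Mod O) := fun M => ModSite.IsFlat M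

instance : (flatP O).IsClosedUnderIsomorphisms where
  of_iso e h := isFlat_of_iso e h

lemma enough_flatP : Enough (flatP O) := fun M => exists_flat_epi M

/-- bounded above complexes of flat modules are K-flat. -/
theorem isKFlat_of_isStrictlyLE (K : CochainComplex (ModSite.Mod O) ℤ) (b : ℤ) [K.IsStrictlyLE b]
    (hK : ∀ n, ModSite.IsFlat (K.X n)) : ModSite.IsKFlat K := by
  rw [isKFlat_iff_kfl]
  exact KFlatBdd.kfl_of_isStrictlyLE (T := ModSite.tensorBi O) K b (fun n => preservesHomology_flip _ (hK n))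

/-- sequential colimits of K-flat complexes are K-flat. -/
theorem isKFlat_of_isColimit {S : ℕ ⥤ CochainComplex (ModSite.Mod O) ℤ} {c : Cocone S} (hc : IsColimit c)
    (hS : ∀ n, ModSite.IsKFlat (S.obj n)) : ModSite.IsKFlat c.pt := by
  simp only [isKFlat_iff_kfl] at hS ⊢
  exact KFl.of_isColimit (T := ModSite.tensorBi O) (cK := c) hc hS

lemma isKFlat_single (M : ModSite.Mod O) (hM : ModSite.IsFlat M) (n : ℤ) :
    ModSite.IsKFlat ((single (ModSite.Mod O) (ComplexShape.up ℤ) n).obj M) := by
  rw [isKFlat_iff_kfl]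
  have := preservesHomology_flip M hM
  exact KFlatSingle.kfl_single (T := ModSite.tensorBi O) M n

/-- any `a : K ⟶ G` factors as `K ⟶ N ⟶ G`, with `N ⟶ G` a quasi-isomorphism,
`N` K-flat if `K` is, and with flat terms if `K` has flat terms. -/
theorem exists_factorization {K G : CochainComplex (ModSite.Mod O) ℤ} (a : K ⟶ G) :
    ∃ (N : CochainComplex (ModSite.Mod O) ℤ) (b : K ⟶ N) (c : N ⟶ G), b ≫ c = a ∧ QuasiIso c ∧
      (ModSite.IsKFlat K → ModSite.IsKFlat N) ∧
        ((∀ n, ModSite.IsFlat (K.X n)) → ∀ n, ModSite.IsFlat (N.X n)) := by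
  simp only [isKFlat_iff_kfl]
  exact KFlatZd.exists_factorization (T := ModSite.tensorBi O) (P := flatP O) enough_flatP preservesHomology_flip
    (fun _ _ => isFlat_biprod) isFlat_colimit_nat a

/-- K-flat resolutions. -/
theorem exists_resolution (G : CochainComplex (ModSite.Mod O) ℤ) :
    ∃ (K : CochainComplex (ModSite.Mod O) ℤ) (q : K ⟶ G), ModSite.IsKFlat K ∧ (∀ n : ℤ, ModSite.IsFlat (K.X n)) ∧
      QuasiIso q ∧ ∀ n : ℤ, Epi (q.f n) := by
  obtain ⟨K, q, h1, h2, h3, h4⟩ := KFlatZd.exists_resolution (T := ModSite.tensorBi O) (P := flatP O) enough_flatP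
    preservesHomology_flip (fun _ _ => isFlat_biprod) isFlat_colimit_nat G
  exact ⟨K, q, (isKFlat_iff_kfl K).2 h3, h4, h1, h2⟩

section SES

variable {S : ShortComplex (CochainComplex (ModSite.Mod O) ℤ)}
    (hS : S.ShortExact) (h3 : ∀ n : ℤ, ModSite.IsFlat (S.X₃.X n))

include hS h3

lemma shortExact_tensor_eval (M : ModSite.Mod O) (q : ℤ) :
    ((S.map (eval (ModSite.Mod O) (ComplexShape.up ℤ) q)).map ((ModSite.tensorBi O).obj M)).ShortExact :=
  shortExact_tensor_obj (S := S.map (eval (ModSite.Mod O) (ComplexShape.up ℤ) q))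
    (hS.map_of_exact (eval (ModSite.Mod O) (ComplexShape.up ℤ) q)) (h3 q) M

lemma isKFlat₁ (h₂ : ModSite.IsKFlat S.X₂) (h₃ : ModSite.IsKFlat S.X₃) : ModSite.IsKFlat S.X₁ := by
  rw [isKFlat_iff_kfl] at h₂ h₃ ⊢
  exact KFlatSES.KFl.ses₁ (shortExact_tensor_eval hS h3) h₂ h₃

lemma isKFlat₂ (h₁ : ModSite.IsKFlat S.X₁) (h₃ : ModSite.IsKFlat S.X₃) : ModSite.IsKFlat S.X₂ := by
  rw [isKFlat_iff_kfl] at h₁ h₃ ⊢
  exact KFlatSES.KFl.ses₂ (shortExact_tensor_eval hS h3) h₁ h₃

lemma isKFlat₃ (h₁ : ModSite.IsKFlat S.X₁) (h₂ : ModSite.IsKFlat S.X₂) : ModSite.IsKFlat S.X₃ := by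
  rw [isKFlat_iff_kfl] at h₁ h₂ ⊢
  exact KFlatSES.KFl.ses₃ (shortExact_tensor_eval hS h3) h₁ h₂

end SES

section Symm

/-- symmetry of the tensor product bifunctor -/
noncomputable def tensorFlipIso (O : Sheaf J CommRingCat.{u}) : (ModSite.tensorBi O).flip ≅ ModSite.tensorBi O :=
  NatIso.ofComponents (fun F => (K291.Mon.objIsoFlip O F).symm)
    (fun {F F'} f => by
      ext G : 2
      change G ◁ f ≫ (β_ F' G).inv = (β_ F G).inv ≫ f ▷ G
      simp)

/-- `K ⊗ L ≅ L ⊗ K` for complexes of modules, naturally in `K` and `L`. -/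
noncomputable def tensorCxSymm (O : Sheaf J CommRingCat.{u}) : ModSite.tensorCx O ≅ (ModSite.tensorCx O).flip :=
  BiNat.symmNatIso (ModSite.tensorBi O) (tensorFlipIso O)

/-- `K ⊗ L ≅ L ⊗ K` -/
noncomputable def tensorCxIso (K L : CochainComplex (ModSite.Mod O) ℤ) :
    ((ModSite.tensorCx O).obj K).obj L ≅ ((ModSite.tensorCx O).obj L).obj K :=
  ((tensorCxSymm O).app K).app L

/-- K-flat complexes are also K-flat in the first variable. -/
lemma acyclic_of_isKFlat {K : CochainComplex (ModSite.Mod O) ℤ} (hK : ModSite.IsKFlat K)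
    (L : CochainComplex (ModSite.Mod O) ℤ) (hL : L.Acyclic) : (((ModSite.tensorCx O).obj K).obj L).Acyclic :=
  KFlatSingle.acyclic_of_iso (tensorCxIso L K) ((isKFlat_iff K).1 hK L hL)

/-- tensoring with a K-flat complex on the left preserves quasi-isomorphisms. -/
lemma quasiIso_tensor_left {K : CochainComplex (ModSite.Mod O) ℤ} (hK : ModSite.IsKFlat K)
    {F G : CochainComplex (ModSite.Mod O) ℤ} (f : F ⟶ G) [QuasiIso f] :
    QuasiIso (((ModSite.tensorCx O).obj K).map f) :=
  CxFun.quasiIso_map ((ModSite.tensorCx O).obj K) (fun L hL => acyclic_of_isKFlat hK L hL) f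

/-- Tensoring a quasi-isomorphism of K-flat complexes with anything gives a quasi-isomorphism. -/
theorem quasiIso_tensor_map {P Q : CochainComplex (ModSite.Mod O) ℤ} (α : P ⟶ Q)
    [QuasiIso α] (hP : ModSite.IsKFlat P) (hQ : ModSite.IsKFlat Q) (F : CochainComplex (ModSite.Mod O) ℤ) :
    QuasiIso (((ModSite.tensorCx O).obj F).map α) := by
  obtain ⟨F', q, hF', -, hq, -⟩ := exists_resolution F
  have h1 : QuasiIso (((ModSite.tensorCx O).map q).app P) := quasiIso_tensor hP q
  have h2 : QuasiIso (((ModSite.tensorCx O).map q).app Q) := quasiIso_tensor hQ q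
  have h3 : QuasiIso (((ModSite.tensorCx O).obj F').map α) := quasiIso_tensor_left hF' α
  have h4 : QuasiIso (((ModSite.tensorCx O).map q).app P ≫ ((ModSite.tensorCx O).obj F).map α) := by
    rw [← NatTrans.naturality]
    infer_instance
  exact quasiIso_of_comp_left (((ModSite.tensorCx O).map q).app P) _

end Symm

section Assoc

/-- The associator of `tensorBi`, as an isomorphism of trifunctors. -/
noncomputable def associatorIso (O : Sheaf J CommRingCat.{u}) :
    bifunctorComp₁₂ (ModSite.tensorBi O) (ModSite.tensorBi O) ≅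
      bifunctorComp₂₃ (ModSite.tensorBi O) (ModSite.tensorBi O) :=
  NatIso.ofComponents (fun M => NatIso.ofComponents (fun N => NatIso.ofComponents
    (fun P => (α_ M N P : (M ⊗ N) ⊗ P ≅ M ⊗ (N ⊗ P))) (fun {P P'} h => by
      change (M ⊗ N) ◁ h ≫ (α_ M N P').hom = (α_ M N P).hom ≫ M ◁ (N ◁ h)
      simp))
    (fun {N N'} g => by
      ext P : 2
      change (M ◁ g) ▷ P ≫ (α_ M N' P).hom = (α_ M N P).hom ≫ M ◁ (g ▷ P)
      simp))
    (fun {M M'} f => by
      ext N P : 4
      change (f ▷ N) ▷ P ≫ (α_ M' N P).hom = (α_ M N P).hom ≫ f ▷ (N ⊗ P)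
      simp)

/-- associativity of the tensor product of complexes -/
noncomputable def tensorCxAssoc (K L M : CochainComplex (ModSite.Mod O) ℤ) :
    ((ModSite.tensorCx O).obj (((ModSite.tensorCx O).obj K).obj L)).obj M ≅
      ((ModSite.tensorCx O).obj K).obj (((ModSite.tensorCx O).obj L).obj M) :=
  mapBifunctorAssociator (associatorIso O) K L M (ComplexShape.up ℤ) (ComplexShape.up ℤ) (ComplexShape.up ℤ)

/-- the tensor product of K-flat complexes is K-flat. -/
theorem isKFlat_tensor (K L : CochainComplex (ModSite.Mod O) ℤ) (hK : ModSite.IsKFlat K) (hL : ModSite.IsKFlat L) :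
    ModSite.IsKFlat (((ModSite.tensorCx O).obj K).obj L) := by
  rw [isKFlat_iff] at hK hL ⊢
  intro M hM
  exact KFlatSingle.acyclic_of_iso (tensorCxAssoc M K L) (hL _ (hK M hM))

end Assoc

end K294.KFlat2
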