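import Groth.Agent.ModSite.K294.KFlat2

/-!
# Acyclic K-flat complexes with flat terms have flat cycles
-/

set_option autoImplicit false
set_option backward.defeqAttrib.useBackward true
set_option backward.isDefEq.respectTransparency false

universe v₁ v₂ u₁ u₂ u

namespace K294.AcycFlat

open CategoryTheory Category Limits HomologicalComplex CochainComplex MonoidalCategory
open Groth.Agent.Dcoh Groth.Agent.Dcoh.KFlatAbs K294.Flat K294.KFl K294.KFlat2 K294.AbsFlat

section

variable {A : Type u₁} {B : Type u₂} [Category.{v₁} A] [Category.{v₂} B] [Abelian A] [Abelian B]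

/-- If `K` and `G(K)` are acyclic and `G` preserves epimorphisms, then `G(Z^n) → G(K^n)` is mono. -/
lemma mono_map_iCycles (G : A ⥤ B) [G.Additive] [G.PreservesEpimorphisms] (K : CochainComplex A ℤ)
    (hK : K.Acyclic) (hG : ((G.mapHomologicalComplex (ComplexShape.up ℤ)).obj K).Acyclic) (n : ℤ) :
    Mono (G.map (K.iCycles n)) := by
  have h1 : Epi (K.toCycles (n - 1) n) :=
    Preadditive.epi_of_isZero_cokernel' _ (K.homologyIsCokernel (n - 1) n (by simp))
      ((HomologicalComplex.exactAt_iff_isZero_homology _ n).1 (hK n))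
  have h2 : Epi (G.map (K.toCycles (n - 1) n)) := inferInstance
  have h3 : (ShortComplex.mk (G.map (K.d (n - 2) (n - 1))) (G.map (K.d (n - 1) n)) (by
      rw [← G.map_comp, K.d_comp_d, G.map_zero])).Exact := by
    have := hG (n - 1)
    rw [HomologicalComplex.exactAt_iff' _ (n - 2) (n - 1) n (by simp; lia) (by simp)] at this
    exact this
  rw [Preadditive.mono_iff_cancel_zero]
  intro Y y hy
  obtain ⟨Y₁, π₁, _, z, hz⟩ := surjective_up_to_refinements_of_epi (G.map (K.toCycles (n - 1) n)) y
  have h4 : z ≫ G.map (K.d (n - 1) n) = 0 := by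
    rw [← K.toCycles_i, G.map_comp, ← assoc, ← hz, assoc, hy, comp_zero]
  obtain ⟨Y₂, π₂, _, w, hw⟩ := h3.exact_up_to_refinements z h4
  dsimp at w hw
  have h5 : (π₂ ≫ π₁) ≫ y = 0 := by
    rw [assoc, hz, ← assoc, hw, assoc, ← G.map_comp]
    simp
  have : Epi (π₂ ≫ π₁) := inferInstance
  rwa [← cancel_epi (π₂ ≫ π₁), comp_zero]

end

variable {C : Type u} [SmallCategory C] {J : GrothendieckTopology C} {O : Sheaf J CommRingCat.{u}}

/-- `K ⊗ M` is acyclic for all modules `M` if `K` is K-flat and acyclic. -/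
theorem acyclic_tensor_module {K : CochainComplex (ModSite.Mod O) ℤ} (hK : ModSite.IsKFlat K) (hac : K.Acyclic)
    (M : ModSite.Mod O) :
    ((((ModSite.tensorBi O).flip.obj M).mapHomologicalComplex (ComplexShape.up ℤ)).obj K).Acyclic := by
  refine KFlatSingle.acyclic_of_iso (KFlatSingle.singleIso (ModSite.tensorBi O) K M).symm ?_
  obtain ⟨F, q, hF, -, hq, -⟩ := exists_resolution ((single (ModSite.Mod O) (ComplexShape.up ℤ) 0).obj M)
  have h1 : QuasiIso (((ModSite.tensorCx O).obj K).map q) := quasiIso_tensor_left hK q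
  have h2 : (((ModSite.tensorCx O).obj K).obj F).Acyclic := (isKFlat_iff F).1 hF K hac
  intro n
  rw [HomologicalComplex.exactAt_iff_isZero_homology]
  have h3 : IsIso (HomologicalComplex.homologyMap (((ModSite.tensorCx O).obj K).map q) n) := by
    rw [← quasiIsoAt_iff_isIso_homologyMap]
    exact h1.quasiIsoAt n
  have h4 := (HomologicalComplex.exactAt_iff_isZero_homology _ n).1 (h2 n)
  exact h4.of_iso (asIso (HomologicalComplex.homologyMap (((ModSite.tensorCx O).obj K).map q) n)).symm

/-- the cycles of an acyclic K-flat complex with flat terms are flat. -/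
theorem isFlat_cycles {K : CochainComplex (ModSite.Mod O) ℤ} (hK : ModSite.IsKFlat K) (hac : K.Acyclic)
    (hfl : ∀ i : ℤ, ModSite.IsFlat (K.X i)) (n : ℤ) : ModSite.IsFlat (K.cycles n) := by
  rw [isFlat_iff_flatL]
  intro M M' f hf
  have h1 : Mono (((ModSite.tensorBi O).map (K.iCycles n)).app M) :=
    mono_map_iCycles ((ModSite.tensorBi O).flip.obj M) K hac (acyclic_tensor_module hK hac M) n
  have h2 : Mono (((ModSite.tensorBi O).obj (K.X n)).map f) := (isFlat_iff_flatL _).1 (hfl n) f hf
  have h3 : Mono (((ModSite.tensorBi O).obj (K.cycles n)).map f ≫ ((ModSite.tensorBi O).map (K.iCycles n)).app M') := by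
    rw [((ModSite.tensorBi O).map (K.iCycles n)).naturality f]
    exact mono_comp _ _
  exact mono_of_mono _ (((ModSite.tensorBi O).map (K.iCycles n)).app M')

end K294.AcycFlat
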