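import Groth.Agent.CohtopB.LeftRes
import Groth.Agent.Dcoh.HomColim
import Mathlib.CategoryTheory.Functor.OfSequence
import Mathlib.Algebra.Homology.HomotopyCategory.ShortExact
import Mathlib.Algebra.Homology.DerivedCategory.Fractions
import Mathlib.Algebra.Homology.DerivedCategory.TStructure

/-!
# Resolution systems

`A` abelian category, `P` a class of objects such that every object is a quotient of an object of `P`, closed under
finite sums.  For a complex `G` we construct a system `K_0 → K_1 → …` of bounded above complexes with terms in `P`,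
with termwise surjective quasi-isomorphisms `K_n → τ_{≤ n+1} G`, such that the transition maps are termwise split
injective with cokernels in `P`.  If sequential colimits are exact, then `colim K_n → G` is a quasi-isomorphism.
-/

set_option autoImplicit false
set_option backward.defeqAttrib.useBackward true
set_option backward.isDefEq.respectTransparency false

universe v u

namespace K294.FreeRes

open CategoryTheory Category Limits HomologicalComplex CochainComplex HomComplex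

variable {A : Type u} [Category.{v} A] [Abelian A]

section

attribute [local instance] HasDerivedCategory.standard

/-- Cones of maps of pairs which are quasi-isomorphisms. -/
lemma quasiIso_mappingCone_map {K₁ L₁ K₂ L₂ : CochainComplex A ℤ} (φ₁ : K₁ ⟶ L₁) (φ₂ : K₂ ⟶ L₂)
    (a : K₁ ⟶ K₂) (b : L₁ ⟶ L₂) (comm : φ₁ ≫ b = a ≫ φ₂) [QuasiIso a] [QuasiIso b] :
    QuasiIso (mappingCone.map φ₁ φ₂ a b comm) := by
  have h := Pretriangulated.isIso₃_of_isIso₁₂
    (DerivedCategory.Q.mapTriangle.map (mappingCone.triangleMap φ₁ φ₂ a b comm))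
    (DerivedCategory.mappingCone_triangle_distinguished φ₁)
    (DerivedCategory.mappingCone_triangle_distinguished φ₂)
    (inferInstanceAs (IsIso (DerivedCategory.Q.map a))) (inferInstanceAs (IsIso (DerivedCategory.Q.map b)))
  rw [← DerivedCategory.isIso_Q_map_iff_quasiIso]
  exact h

end

/-- a convenient class of objects. -/
structure Cls (P : ObjectProperty A) : Prop where
  zero : ∀ Z : A, IsZero Z → P Z
  iso : ∀ {X Y : A}, (X ≅ Y) → P X → P Y
  sum : ∀ {X Y : A}, P X → P Y → P (X ⊞ Y)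
  enough : ∀ X : A, ∃ (Y : A) (π : Y ⟶ X), P Y ∧ Epi π

variable {P : ObjectProperty A}

/-- The splitting of `L^n → cone(α)^n`, `α : T' → L ⊞ T`. -/
noncomputable def splitting {L T T' : CochainComplex A ℤ} (α : T' ⟶ L ⊞ T) (n : ℤ) :
    (ShortComplex.mk (((biprod.inl : L ⟶ L ⊞ T) ≫ mappingCone.inr α).f n)
      (biprod.lift ((mappingCone.fst α).1.v n (n + 1) rfl)
        ((mappingCone.snd α).v n n (add_zero n) ≫ (biprod.snd : L ⊞ T ⟶ T).f n)) (by
          ext
          · simp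
          · simp)).Splitting where
  r := (mappingCone.snd α).v n n (add_zero n) ≫ (biprod.fst : L ⊞ T ⟶ L).f n
  s := biprod.desc ((mappingCone.inl α).v (n + 1) n (by lia))
    ((biprod.inr : T ⟶ L ⊞ T).f n ≫ (mappingCone.inr α).f n)
  f_r := by simp
  s_g := by
    ext
    · simp
    · simp
    · simp
    · simp
  id := by
    have h : (biprod.fst : L ⊞ T ⟶ L).f n ≫ (biprod.inl : L ⟶ L ⊞ T).f n +
        (biprod.snd : L ⊞ T ⟶ T).f n ≫ (biprod.inr : T ⟶ L ⊞ T).f n = 𝟙 _ := by
      rw [← comp_f, ← comp_f, ← add_f_apply, biprod.total, id_f]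
    dsimp
    rw [mappingCone.ext_from_iff _ (n + 1) n rfl]
    constructor
    · simp
    · simp only [Preadditive.comp_add, comp_id, assoc, mappingCone.inr_f_snd_v_assoc,
        mappingCone.inr_f_fst_v_assoc, biprod.lift_desc, zero_comp, zero_add]
      rw [← assoc, ← assoc ((biprod.snd : L ⊞ T ⟶ T).f n), ← Preadditive.add_comp, h, id_comp]

/-- relative resolutions -/
theorem exists_step (hP : Cls P) {L M : CochainComplex A ℤ} (φ : L ⟶ M) (a b : ℤ) [L.IsStrictlyLE a] [M.IsStrictlyLE b]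
    (hL : ∀ n, P (L.X n)) :
    ∃ (K : CochainComplex A ℤ) (i : L ⟶ K) (p : K ⟶ M) (c : ℤ), i ≫ p = φ ∧ QuasiIso p ∧ (∀ n, Epi (p.f n)) ∧
      K.IsStrictlyLE c ∧ (∀ n, P (K.X n)) ∧
        ∀ n, ∃ (r : K.X n ⟶ L.X n), i.f n ≫ r = 𝟙 _ ∧ P (cokernel (i.f n)) := by
  have : HasZeroObject A := inferInstance
  obtain ⟨Z, hZ⟩ := this.zero
  obtain ⟨T, t, hTb, hTP, ht, ht'⟩ := Groth.Agent.CohtopB.LeftRes.exists_left_resolution P ⟨Z, hZ, hP.zero Z hZ⟩
    hP.enough M b
  let g : L ⊞ T ⟶ M := biprod.desc φ t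
  have hg : ∀ n, Epi (g.f n) := fun n => by
    have : (biprod.inr : T ⟶ L ⊞ T).f n ≫ g.f n = t.f n := by
      rw [← comp_f]; simp [g]
    have := ht n
    exact epi_of_epi_fac ‹(biprod.inr : T ⟶ L ⊞ T).f n ≫ g.f n = t.f n›
  have hg' : Epi g := HomologicalComplex.epi_of_epi_f _ hg
  have hz (n : ℤ) (hn : max a b < n) : IsZero ((L ⊞ T).X n) := by
    have h1 := L.isZero_of_isStrictlyLE a n (by lia)
    have h2 := T.isZero_of_isStrictlyLE b n (by lia)
    refine IsZero.of_iso ?_ (HomologicalComplex.biprodXIso L T n)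
    exact (biprod_isZero_iff _ _).2 ⟨h1, h2⟩
  have hN : (kernel g).IsStrictlyLE (max a b) := by
    rw [isStrictlyLE_iff]
    intro n hn
    exact IsZero.of_mono ((kernel.ι g).f n) (hz n hn)
  obtain ⟨T', t', hTb', hTP', hT', hT''⟩ := Groth.Agent.CohtopB.LeftRes.exists_left_resolution P
    ⟨Z, hZ, hP.zero Z hZ⟩ hP.enough (kernel g) (max a b)
  let α : T' ⟶ L ⊞ T := t' ≫ kernel.ι g
  let i : L ⟶ mappingCone α := (biprod.inl : L ⟶ L ⊞ T) ≫ mappingCone.inr α
  let p : mappingCone α ⟶ M := mappingCone.desc α 0 g (by simp [α])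
  have hipg : mappingCone.inr α ≫ p = g := by simp [p]
  let hterm (n : ℤ) : (mappingCone α).X n ≅ T'.X (n + 1) ⊞ (L.X n ⊞ T.X n) :=
    (homotopyCofiber.XIsoBiprod α n (n + 1) rfl) ≪≫ biprod.mapIso (Iso.refl _) (HomologicalComplex.biprodXIso L T n)
  refine ⟨mappingCone α, i, p, max a b, ?_, ?_, ?_, ?_, ?_, ?_⟩
  · simp [i, hipg, g]
  · let S : ShortComplex (CochainComplex A ℤ) := ShortComplex.mk (kernel.ι g) g (by simp)
    have hS : S.ShortExact := ⟨S.exact_of_f_is_kernel (kernelIsKernel g)⟩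
    have h1 : QuasiIso (mappingCone.map α (kernel.ι g) t' (𝟙 _) (by simp [α])) :=
      quasiIso_mappingCone_map _ _ _ _ _
    have h2 := mappingCone.quasiIso_descShortComplex hS
    have h3 : p = mappingCone.map α (kernel.ι g) t' (𝟙 _) (by simp [α]) ≫ mappingCone.descShortComplex S := by
      ext n
      rw [mappingCone.ext_from_iff _ (n + 1) n rfl]
      constructor
      · have := mappingCone.inl_v_descShortComplex_f S (n + 1) n (by lia)
        simp only [S] at this
        simp [p, mappingCone.map, S, this]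
      · have := mappingCone.inr_f_descShortComplex_f S n
        simp only [S] at this
        simp [p, mappingCone.map, S, this]
    rw [h3]
    infer_instance
  · intro n
    have h : (mappingCone.inr α).f n ≫ p.f n = g.f n := by rw [← comp_f, hipg]
    have := hg n
    exact epi_of_epi_fac h
  · rw [isStrictlyLE_iff]
    intro n hn
    refine IsZero.of_iso ?_ (homotopyCofiber.XIsoBiprod α n (n + 1) rfl)
    exact (biprod_isZero_iff _ _).2 ⟨T'.isZero_of_isStrictlyLE (max a b) _ (by lia), hz n hn⟩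
  · intro n
    exact hP.iso (hterm n).symm (hP.sum (hTP' _) (hP.sum (hL n) (hTP n)))
  · intro n
    refine ⟨(splitting α n).r, (splitting α n).f_r, ?_⟩
    exact hP.iso ((cokernelIsCokernel _).coconePointUniqueUpToIso (splitting α n).gIsCokernel).symm
      (hP.sum (hTP' _) (hTP n))

/-- The transition maps `τ_{≤ m} G → τ_{≤ n} G`. -/
noncomputable def tr (G : CochainComplex A ℤ) (m n : ℤ) (h : m ≤ n) : G.truncLE m ⟶ G.truncLE n :=
  haveI : (G.truncLE m).IsStrictlyLE n := CochainComplex.isStrictlyLE_of_le (G.truncLE m) m n h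
  inv ((G.truncLE m).ιTruncLE n) ≫ truncLEMap (G.ιTruncLE m) n

@[reassoc]
lemma tr_ι (G : CochainComplex A ℤ) (m n : ℤ) (h : m ≤ n) : tr G m n h ≫ G.ιTruncLE n = G.ιTruncLE m := by
  simp [tr]

/-- stages of the construction -/
structure Stage (P : ObjectProperty A) (G : CochainComplex A ℤ) (n : ℕ) where
  K : CochainComplex A ℤ
  π : K ⟶ G.truncLE ((n : ℤ) + 1)
  qi : QuasiIso π
  epi : ∀ i, Epi (π.f i)
  b : ℤ
  le : K.IsStrictlyLE b
  term : ∀ i, P (K.X i)

variable {G : CochainComplex A ℤ}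

lemma exists_init (hP : Cls P) (G : CochainComplex A ℤ) : Nonempty (Stage P G 0) := by
  have : HasZeroObject A := inferInstance
  obtain ⟨Z, hZ⟩ := this.zero
  obtain ⟨K, π, h1, h2, h3, h4⟩ := Groth.Agent.CohtopB.LeftRes.exists_left_resolution P ⟨Z, hZ, hP.zero Z hZ⟩
    hP.enough (G.truncLE (((0 : ℕ) : ℤ) + 1)) (((0 : ℕ) : ℤ) + 1)
  exact ⟨⟨K, π, h4, h3, _, h1, h2⟩⟩

lemma exists_next (hP : Cls P) {n : ℕ} (s : Stage P G n) :
    ∃ (s' : Stage P G (n + 1)) (i : s.K ⟶ s'.K), i ≫ s'.π = s.π ≫ tr G _ _ (by push_cast; lia) ∧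
      ∀ j, ∃ r : s'.K.X j ⟶ s.K.X j, i.f j ≫ r = 𝟙 _ ∧ P (cokernel (i.f j)) := by
  have := s.le
  obtain ⟨K, i, p, c, h1, h2, h3, h4, h5, h6⟩ := exists_step hP
    (s.π ≫ tr G ((n : ℤ) + 1) (((n + 1 : ℕ) : ℤ) + 1) (by push_cast; lia)) s.b (((n + 1 : ℕ) : ℤ) + 1) s.term
  exact ⟨⟨K, p, h2, h3, c, h4, h5⟩, i, h1, h6⟩

section

variable (hP : Cls P) (G)

/-- the sequence of stages -/
noncomputable def stage : ∀ n : ℕ, Stage P G n
  | 0 => (exists_init hP G).some
  | n + 1 => (exists_next hP (stage n)).choose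

/-- transition maps -/
noncomputable def trans (n : ℕ) : (stage G hP n).K ⟶ (stage G hP (n + 1)).K :=
  (exists_next hP (stage G hP n)).choose_spec.choose

lemma trans_π (n : ℕ) : trans G hP n ≫ (stage G hP (n + 1)).π =
    (stage G hP n).π ≫ tr G _ _ (by push_cast; lia) :=
  (exists_next hP (stage G hP n)).choose_spec.choose_spec.1

lemma trans_split (n : ℕ) (j : ℤ) : ∃ r : (stage G hP (n + 1)).K.X j ⟶ (stage G hP n).K.X j,
    (trans G hP n).f j ≫ r = 𝟙 _ ∧ P (cokernel ((trans G hP n).f j)) :=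
  (exists_next hP (stage G hP n)).choose_spec.choose_spec.2 j

/-- stages over `G` -/
noncomputable def ov (n : ℕ) : Over G := Over.mk ((stage G hP n).π ≫ G.ιTruncLE ((n : ℤ) + 1))

/-- transition maps over `G` -/
noncomputable def ovTrans (n : ℕ) : ov G hP n ⟶ ov G hP (n + 1) := Over.homMk (trans G hP n) (by
  change trans G hP n ≫ (stage G hP (n + 1)).π ≫ G.ιTruncLE (((n + 1 : ℕ) : ℤ) + 1) = _
  rw [← assoc, trans_π, assoc, tr_ι]
  rfl)

/-- the system over `G` -/
noncomputable def seqOver : ℕ ⥤ Over G := Functor.ofSequence (ovTrans G hP)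

/-- the system -/
noncomputable abbrev sys : ℕ ⥤ CochainComplex A ℤ := seqOver G hP ⋙ Over.forget G

lemma sys_map (n : ℕ) : (sys G hP).map (homOfLE (Nat.le_succ n)) = trans G hP n := by
  dsimp [sys, seqOver]
  erw [Functor.ofSequence_map_homOfLE_succ (ovTrans G hP) n]
  rfl

/-- the cocone -/
noncomputable abbrev coc : Cocone (sys G hP) := (Over.forgetCocone G).whisker (seqOver G hP)

end

/-- A morphism from a sequential colimit is an isomorphism if the cocone is eventually an isomorphism. -/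
lemma isIso_desc {B : Type u} [Category.{v} B] {F : ℕ ⥤ B} {c : Cocone F} (hc : IsColimit c) (c' : Cocone F) (N : ℕ)
    (h : ∀ n, N ≤ n → IsIso (c'.ι.app n)) : IsIso (hc.desc c') := by
  have hN := h N le_rfl
  refine ⟨inv (c'.ι.app N) ≫ c.ι.app N, hc.hom_ext (fun j => ?_), by simp⟩
  rw [hc.fac_assoc, comp_id]
  have h1 : ∀ m (hm : N ≤ m), c'.ι.app m ≫ inv (c'.ι.app N) ≫ c.ι.app N = c.ι.app m := fun m hm => by
    have := h m hm
    have h2 : F.map (homOfLE hm) ≫ c'.ι.app m = c'.ι.app N := c'.w _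
    have h3 : IsIso (F.map (homOfLE hm)) := by
      have : IsIso (F.map (homOfLE hm) ≫ c'.ι.app m) := by rw [h2]; infer_instance
      exact IsIso.of_isIso_comp_right _ (c'.ι.app m)
    rw [← cancel_epi (F.map (homOfLE hm)), reassoc_of% h2, IsIso.hom_inv_id_assoc, c.w]
  rw [← c'.w (homOfLE (le_max_left j N)), assoc, h1 _ (le_max_right j N), c.w]

variable [HasColimitsOfShape ℕ A] [HasExactColimitsOfShape ℕ A]

lemma quasiIso_desc (hP : Cls P) : QuasiIso (colimit.desc (sys G hP) (coc G hP)) := by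
  rw [quasiIso_iff]
  intro i
  rw [quasiIsoAt_iff_isIso_homologyMap]
  have hc := isColimitOfPreserves (homologyFunctor A (ComplexShape.up ℤ) i) (colimit.isColimit (sys G hP))
  have h : homologyMap (colimit.desc (sys G hP) (coc G hP)) i =
      hc.desc ((homologyFunctor A (ComplexShape.up ℤ) i).mapCocone (coc G hP)) := by
    refine hc.hom_ext (fun j => ?_)
    rw [hc.fac]
    dsimp
    rw [← homologyMap_comp, colimit.ι_desc]
    rfl
  rw [h]
  refine isIso_desc hc _ i.toNat (fun n hn => ?_)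
  have h1 := (stage G hP n).qi
  have h2 : QuasiIsoAt (G.ιTruncLE ((n : ℤ) + 1)) i := quasiIsoAt_ιTruncLE G _ _ (by lia)
  change IsIso (homologyMap ((stage G hP n).π ≫ G.ιTruncLE ((n : ℤ) + 1)) i)
  rw [homologyMap_comp]
  infer_instance

/-- **Resolution systems** -/
theorem exists_system (hP : Cls P) (G : CochainComplex A ℤ) :
    ∃ (Kc : ℕ ⥤ CochainComplex A ℤ) (π : ∀ n : ℕ, Kc.obj n ⟶ G.truncLE ((n : ℤ) + 1)),
      (∀ n : ℕ, Kc.map (homOfLE (Nat.le_succ n)) ≫ π (n + 1) ≫ G.ιTruncLE (((n + 1 : ℕ) : ℤ) + 1) =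
        π n ≫ G.ιTruncLE ((n : ℤ) + 1)) ∧
      (∀ n : ℕ, QuasiIso (π n) ∧ ∀ i : ℤ, Epi ((π n).f i)) ∧
      (∀ n : ℕ, ∃ b : ℤ, (Kc.obj n).IsStrictlyLE b) ∧
      (∀ (n : ℕ) (i : ℤ), P ((Kc.obj n).X i)) ∧
      (∀ (n : ℕ) (i : ℤ), ∃ r : (Kc.obj (n + 1)).X i ⟶ (Kc.obj n).X i,
        (Kc.map (homOfLE (Nat.le_succ n))).f i ≫ r = 𝟙 _ ∧
          P (cokernel ((Kc.map (homOfLE (Nat.le_succ n))).f i))) ∧
      ∃ c : colimit Kc ⟶ G, (∀ n : ℕ, colimit.ι Kc n ≫ c = π n ≫ G.ιTruncLE ((n : ℤ) + 1)) ∧ QuasiIso c := by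
  refine ⟨sys G hP, fun n => (stage G hP n).π, fun n => ?_, fun n => ⟨(stage G hP n).qi, (stage G hP n).epi⟩,
    fun n => ⟨_, (stage G hP n).le⟩, fun n => (stage G hP n).term, fun n i => ?_,
    colimit.desc (sys G hP) (coc G hP), fun n => colimit.ι_desc _ _, quasiIso_desc hP⟩
  · rw [sys_map]
    erw [reassoc_of% trans_π G hP n]
    rw [tr_ι]
  · rw [sys_map]
    exact trans_split G hP n i

end K294.FreeRes
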