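import Groth.Agent.ModSite.K291.FreeOn
import Groth.Agent.ModSite.K294.FreeRes
import Groth.Agent.ModSite.K294.Flat
import Mathlib.CategoryTheory.Limits.Shapes.CombinedProducts

/-!
# Direct sums of modules `j_{U!} O_U`
-/

set_option autoImplicit false

universe u

namespace K294.FreeSum

open CategoryTheory Category Limits

variable {C : Type u} [SmallCategory C] {J : GrothendieckTopology C} (O : Sheaf J CommRingCat.{u})

/-- Direct sums of modules `j_{U!} O_U`. -/
def freeSumP : ObjectProperty (ModSite.Mod O) := fun X =>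
  ∃ (ι : Type u) (U : ι → C), Nonempty (X ≅ ∐ fun j => ModSite.freeOn O (U j))

lemma exists_epi (X : ModSite.Mod O) : ∃ (Y : ModSite.Mod O) (π : Y ⟶ X), freeSumP O Y ∧ Epi π := by
  refine ⟨∐ fun j : (Σ U : C, ModSite.sect X U) => ModSite.freeOn O j.1,
    Sigma.desc fun j => K291.FreeOn.ofSec j.2, ⟨_, _, ⟨Iso.refl _⟩⟩, ⟨fun a b hab => ?_⟩⟩
  refine K291.FreeOn.hom_ext fun U s => ?_
  have h1 := Sigma.ι (fun j : (Σ U : C, ModSite.sect X U) => ModSite.freeOn O j.1) ⟨U, s⟩ ≫= hab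
  rw [Sigma.ι_desc_assoc, Sigma.ι_desc_assoc, K291.FreeOn.ofSec_comp, K291.FreeOn.ofSec_comp] at h1
  have h2 := congrArg (fun t => K291.FreeOn.sc t U (K291.FreeOn.gen O U)) h1
  simpa only [K291.FreeOn.sc_ofSec] using h2

lemma cls : K294.FreeRes.Cls (freeSumP O) where
  zero Z hZ := by
    have h : IsZero (∐ fun j : PEmpty.{u + 1} => ModSite.freeOn O (PEmpty.elim j)) := by
      rw [IsZero.iff_id_eq_zero]
      exact Sigma.hom_ext _ _ (fun j => j.elim)
    exact ⟨PEmpty, PEmpty.elim, ⟨hZ.iso h⟩⟩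
  iso e h := by
    obtain ⟨ι, U, ⟨e'⟩⟩ := h
    exact ⟨ι, U, ⟨e.symm ≪≫ e'⟩⟩
  sum {X Y} hX hY := by
    obtain ⟨ι, U, ⟨e⟩⟩ := hX
    obtain ⟨ι', U', ⟨e'⟩⟩ := hY
    have h := Cofan.combPairIsColimit (coproductIsCoproduct fun j => ModSite.freeOn O (U j))
      (coproductIsCoproduct fun j => ModSite.freeOn O (U' j)) (BinaryBiproduct.isColimit _ _)
    refine ⟨ι ⊕ ι', Sum.elim U U', ⟨biprod.mapIso e e' ≪≫
      h.coconePointUniqueUpToIso (colimit.isColimit _) ≪≫ Sigma.mapIso (fun j => ?_)⟩⟩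
    match j with
    | .inl a => exact Iso.refl _
    | .inr a => exact Iso.refl _
  enough := exists_epi O

end K294.FreeSum
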