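import Groth.Prelude.Def_KFlatSite
import Groth.Agent.Dcoh.KFlatAbs

/-!
# K-flat complexes of modules on a ringed site: triangulated formalities

`ModSite.IsKFlat` is the abstract notion `KFl (ModSite.tensorBi O)` of `Dcoh.KFlatAbs`.
-/

set_option autoImplicit false

universe u

namespace K294.KFl

open CategoryTheory Limits CochainComplex
open Groth.Agent.Dcoh.KFlatAbs

variable {C : Type u} [SmallCategory C] {J : GrothendieckTopology C} {O : Sheaf J CommRingCat.{u}}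

lemma isKFlat_iff (E : CochainComplex (ModSite.Mod O) ℤ) :
    ModSite.IsKFlat E ↔ ∀ L : CochainComplex (ModSite.Mod O) ℤ, L.Acyclic →
      (((ModSite.tensorCx O).obj L).obj E).Acyclic := by
  unfold ModSite.IsKFlat
  simp only [HomologicalComplex.Acyclic, HomologicalComplex.exactAt_iff_isZero_homology]

lemma isKFlat_iff_kfl (E : CochainComplex (ModSite.Mod O) ℤ) :
    ModSite.IsKFlat E ↔ KFl (ModSite.tensorBi O) E :=
  isKFlat_iff E

lemma quasiIso_tensor {K : CochainComplex (ModSite.Mod O) ℤ} (hK : ModSite.IsKFlat K)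
    {F G : CochainComplex (ModSite.Mod O) ℤ} (f : F ⟶ G) [QuasiIso f] :
    QuasiIso (((ModSite.tensorCx O).map f).app K) :=
  ((isKFlat_iff_kfl K).1 hK).quasiIso f

lemma isKFlat_mappingCone {K₁ K₂ : CochainComplex (ModSite.Mod O) ℤ} (φ : K₁ ⟶ K₂)
    (h₁ : ModSite.IsKFlat K₁) (h₂ : ModSite.IsKFlat K₂) : ModSite.IsKFlat (mappingCone φ) := by
  rw [isKFlat_iff_kfl] at h₁ h₂ ⊢
  exact KFl.mappingCone φ h₁ h₂

lemma isKFlat_of_mappingCone₂ {K₁ K₂ : CochainComplex (ModSite.Mod O) ℤ} (φ : K₁ ⟶ K₂)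
    (h₁ : ModSite.IsKFlat K₁) (h₃ : ModSite.IsKFlat (mappingCone φ)) : ModSite.IsKFlat K₂ := by
  rw [isKFlat_iff_kfl] at h₁ h₃ ⊢
  exact KFl.of_mappingCone₂ φ h₁ h₃

lemma isKFlat_of_mappingCone₁ {K₁ K₂ : CochainComplex (ModSite.Mod O) ℤ} (φ : K₁ ⟶ K₂)
    (h₂ : ModSite.IsKFlat K₂) (h₃ : ModSite.IsKFlat (mappingCone φ)) : ModSite.IsKFlat K₁ := by
  rw [isKFlat_iff_kfl] at h₂ h₃ ⊢
  exact KFl.of_mappingCone₁ φ h₂ h₃

lemma isKFlat_of_iso {K L : CochainComplex (ModSite.Mod O) ℤ} (e : K ≅ L) (hK : ModSite.IsKFlat K) :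
    ModSite.IsKFlat L := by
  rw [isKFlat_iff_kfl] at hK ⊢
  exact hK.of_iso e

lemma isKFlat_of_homotopyEquiv {K L : CochainComplex (ModSite.Mod O) ℤ} (e : HomotopyEquiv K L)
    (hK : ModSite.IsKFlat K) : ModSite.IsKFlat L := by
  rw [isKFlat_iff_kfl] at hK ⊢
  exact hK.of_homotopyEquiv e

lemma isKFlat_shift {K : CochainComplex (ModSite.Mod O) ℤ} (hK : ModSite.IsKFlat K) (n : ℤ) :
    ModSite.IsKFlat (K⟦n⟧) := by
  rw [isKFlat_iff_kfl] at hK ⊢
  exact hK.shift n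

lemma isKFlat_of_split (S : ShortComplex (CochainComplex (ModSite.Mod O) ℤ))
    (σ : ∀ n, (S.map (HomologicalComplex.eval (ModSite.Mod O) (ComplexShape.up ℤ) n)).Splitting)
    (h₁ : ModSite.IsKFlat S.X₁) (h₃ : ModSite.IsKFlat S.X₃) : ModSite.IsKFlat S.X₂ := by
  rw [isKFlat_iff_kfl] at h₁ h₃ ⊢
  exact KFl.of_split S σ h₁ h₃

end K294.KFl
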