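import Groth.Agent.ModSite.K291.Restr
import Groth.Agent.Sga4A.ModShriek
import Mathlib.LinearAlgebra.DirectSum.TensorProduct

set_option autoImplicit false

open CategoryTheory MonoidalCategory Limits Opposite

universe u

namespace K294.ProjExt

section Algebra

open TensorProduct DirectSum

open Classical in
theorem bijective_aux {R : Type*} [CommRing R] {ι : Type*} (M : ι → Type*) [∀ i, AddCommGroup (M i)]
    [∀ i, Module R (M i)] (N : Type*) [AddCommGroup N] [Module R N] (T : ι → Type*) [∀ i, AddCommGroup (T i)]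
    (e : ∀ i, (M i ⊗[R] N) ≃+ T i) (φ : (⨁ i, T i) →+ (⨁ i, M i) ⊗[R] N)
    (h : ∀ i (x : M i) (y : N), φ (DirectSum.of T i (e i (x ⊗ₜ y))) = (DirectSum.lof R ι M i x) ⊗ₜ y) :
    Function.Bijective φ := by
  let a : (⨁ i, M i) ⊗[R] N ≃+ ⨁ i, (M i ⊗[R] N) := (TensorProduct.directSumLeft R R M N).toAddEquiv
  let b : (⨁ i, (M i ⊗[R] N)) ≃+ ⨁ i, T i := DFinsupp.mapRange.addEquiv e
  have hb : ∀ i z, b (DirectSum.of (fun i => M i ⊗[R] N) i z) = DirectSum.of T i (e i z) := fun i z =>
    DFinsupp.mapRange_single (hf := fun i => map_zero (e i))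
  let c : (⨁ i, M i) ⊗[R] N ≃+ ⨁ i, T i := a.trans b
  have key : c.toAddMonoidHom.comp φ = AddMonoidHom.id _ := by
    refine DirectSum.addHom_ext' fun i => ?_
    refine AddMonoidHom.ext fun t => ?_
    obtain ⟨z, rfl⟩ := (e i).surjective t
    change c (φ (DirectSum.of T i (e i z))) = DirectSum.of T i (e i z)
    induction z using TensorProduct.induction_on with
    | zero => simp only [map_zero]
    | tmul x y =>
      rw [h]
      change b (TensorProduct.directSumLeft R R M N (DirectSum.lof R ι M i x ⊗ₜ[R] y)) = _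
      rw [TensorProduct.directSumLeft_tmul_lof]
      exact hb _ _
    | add x y hx hy => simp only [map_add, hx, hy]
  have h1 : Function.Bijective (c ∘ φ) := by
    have : c ∘ φ = id := funext fun z => DFunLike.congr_fun key z
    rw [this]
    exact Function.bijective_id
  exact (Function.Bijective.of_comp_iff' c.bijective φ).1 h1

end Algebra

open Groth.Agent.Dcoh K291.Mon K291.Restr Groth.Agent.Sga4A.ModShriek
open scoped K291.Mon

variable {C : Type u} [SmallCategory C] {J : GrothendieckTopology C} (O : Sheaf J CommRingCat.{u}) (X : C)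

/-- the presheaf of rings -/
abbrev RC : Cᵒᵖ ⥤ RingCat.{u} := O.obj ⋙ forget₂ CommRingCat.{u} RingCat.{u}

/-- presheaf level extension by zero -/
noncomputable def preL : PM (O.over X) ⥤ PM O := shriek (RC O) X

/-- the adjunction -/
noncomputable def preAdj : preL O X ⊣ preR O X := adj (RC O) X

attribute [local instance] braidedPreR

lemma μ_tmul (M N : PM O) (Y : (Over X)ᵒᵖ) (m : M.obj (op Y.unop.left)) (n : N.obj (op Y.unop.left)) :
    ((Functor.LaxMonoidal.μ (preR O X) M N).app Y).hom
      (TensorProduct.tmul ((O.over X).obj.obj Y) (M := ((preR O X).obj M).obj Y)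
        (N := ((preR O X).obj N).obj Y) m n) =
      TensorProduct.tmul (O.obj.obj (op Y.unop.left)) (M := M.obj (op Y.unop.left))
        (N := N.obj (op Y.unop.left)) m n := by
  exact MonRes290.rsμ_tmul (Iso.refl ((Over.forget X).op ⋙ O.obj))
    ((PresheafOfModules.pushforward₀OfCommRingCat (Over.forget X) O.obj).obj M)
    ((PresheafOfModules.pushforward₀OfCommRingCat (Over.forget X) O.obj).obj N) Y m n

/-- the transpose of the projection map -/
noncomputable def ψ (A : PM (O.over X)) (B : PM O) :
    A ⊗ (preR O X).obj B ⟶ (preR O X).obj ((preL O X).obj A ⊗ B) :=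
  (preAdj O X).unit.app A ▷ (preR O X).obj B ≫ Functor.LaxMonoidal.μ (preR O X) _ B

lemma ψ_tmul (A : PM (O.over X)) (B : PM O) (Y : (Over X)ᵒᵖ) (m : A.obj Y) (n : B.obj (op Y.unop.left)) :
    ((ψ O X A B).app Y).hom
      (TensorProduct.tmul ((O.over X).obj.obj Y) (M := A.obj Y) (N := ((preR O X).obj B).obj Y) m n) =
      TensorProduct.tmul (O.obj.obj (op Y.unop.left)) (M := ((preL O X).obj A).obj (op Y.unop.left))
        (N := B.obj (op Y.unop.left)) (of (R := RC O) (X := X) A (op Y.unop.left) Y.unop.hom m) n :=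
  μ_tmul O X ((preL O X).obj A) B Y (of (R := RC O) (X := X) A (op Y.unop.left) Y.unop.hom m) n

/-- the projection map on presheaves -/
noncomputable def preπ (A : PM (O.over X)) (B : PM O) :
    (preL O X).obj (A ⊗ (preR O X).obj B) ⟶ (preL O X).obj A ⊗ B :=
  fromRestr (R := RC O) (X := X) (M := (A ⊗ (preR O X).obj B : PM (O.over X))) (N := ((preL O X).obj A ⊗ B : PM O))
    (ψ O X A B)

lemma preπ_of (A : PM (O.over X)) (B : PM O) (V : Cᵒᵖ) (f : V.unop ⟶ X) (m : A.obj (op (Over.mk f)))
    (n : B.obj V) :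
    ((preπ O X A B).app V).hom (of (R := RC O) (X := X) (A ⊗ (preR O X).obj B : PM (O.over X)) V f
      (TensorProduct.tmul ((O.over X).obj.obj (op (Over.mk f))) (M := A.obj (op (Over.mk f)))
        (N := ((preR O X).obj B).obj (op (Over.mk f))) m n)) =
      TensorProduct.tmul (O.obj.obj V) (M := ((preL O X).obj A).obj V) (N := B.obj V) (of (R := RC O) (X := X) A V f m) n :=
  (fromRestrApp_of (R := RC O) (X := X) (M := (A ⊗ (preR O X).obj B : PM (O.over X)))
    (N := ((preL O X).obj A ⊗ B : PM O)) (ψ O X A B) V f _).trans (ψ_tmul O X A B (op (Over.mk f)) m n)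

lemma preL_ext {A : PM (O.over X)} {B : PM O} {N : PM O} {a b : (preL O X).obj (A ⊗ (preR O X).obj B) ⟶ N}
    (h : ∀ (V : Cᵒᵖ) (f : V.unop ⟶ X) (m : A.obj (op (Over.mk f))) (n : B.obj V),
      (a.app V).hom (of (R := RC O) (X := X) (A ⊗ (preR O X).obj B : PM (O.over X)) V f
        (TensorProduct.tmul ((O.over X).obj.obj (op (Over.mk f))) (M := A.obj (op (Over.mk f)))
          (N := ((preR O X).obj B).obj (op (Over.mk f))) m n)) =
      (b.app V).hom (of (R := RC O) (X := X) (A ⊗ (preR O X).obj B : PM (O.over X)) V f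
        (TensorProduct.tmul ((O.over X).obj.obj (op (Over.mk f))) (M := A.obj (op (Over.mk f)))
          (N := ((preR O X).obj B).obj (op (Over.mk f))) m n))) : a = b := by
  refine sh_hom_ext (R := RC O) (X := X) (M := (A ⊗ (preR O X).obj B : PM (O.over X))) (fun V f z => ?_)
  let α : TensorProduct ((O.over X).obj.obj (op (Over.mk f))) (A.obj (op (Over.mk f)))
      (((preR O X).obj B).obj (op (Over.mk f))) →+ N.obj V :=
    (a.app V).hom.toAddMonoidHom.comp (of (R := RC O) (X := X) (A ⊗ (preR O X).obj B : PM (O.over X)) V f).toAddMonoidHom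
  let β : TensorProduct ((O.over X).obj.obj (op (Over.mk f))) (A.obj (op (Over.mk f)))
      (((preR O X).obj B).obj (op (Over.mk f))) →+ N.obj V :=
    (b.app V).hom.toAddMonoidHom.comp (of (R := RC O) (X := X) (A ⊗ (preR O X).obj B : PM (O.over X)) V f).toAddMonoidHom
  change α z = β z
  induction z using TensorProduct.induction_on with
  | zero => rw [map_zero, map_zero]
  | tmul m n => exact h V f m n
  | add x y hx hy => rw [map_add, map_add, hx, hy]

lemma preπ_natA {A A' : PM (O.over X)} (a : A ⟶ A') (B : PM O) :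
    (preL O X).map (a ▷ (preR O X).obj B) ≫ preπ O X A' B = preπ O X A B ≫ ((preL O X).map a ▷ B) := by
  refine preL_ext O X (fun V f m n => ?_)
  have h1 : (((preL O X).map (a ▷ (preR O X).obj B)).app V).hom
      (of (R := RC O) (X := X) (A ⊗ (preR O X).obj B : PM (O.over X)) V f
        (TensorProduct.tmul ((O.over X).obj.obj (op (Over.mk f))) (M := A.obj (op (Over.mk f)))
          (N := ((preR O X).obj B).obj (op (Over.mk f))) m n)) =
      (of (R := RC O) (X := X) (A' ⊗ (preR O X).obj B : PM (O.over X)) V f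
        (TensorProduct.tmul ((O.over X).obj.obj (op (Over.mk f))) (M := A'.obj (op (Over.mk f)))
          (N := ((preR O X).obj B).obj (op (Over.mk f))) ((a.app _).hom m) n)) :=
    shMapApp_of (R := RC O) (X := X) (a ▷ (preR O X).obj B) V f _
  have h2 : (((preL O X).map a).app V).hom (of (R := RC O) (X := X) A V f m) =
      of (R := RC O) (X := X) A' V f ((a.app _).hom m) := shMapApp_of (R := RC O) (X := X) a V f _
  refine Eq.trans (congrArg ((preπ O X A' B).app V).hom h1) ?_
  refine (preπ_of O X A' B V f _ n).trans ?_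
  refine Eq.trans ?_ (congrArg (((preL O X).map a ▷ B).app V).hom (preπ_of O X A B V f m n)).symm
  exact (congrArg (fun t => TensorProduct.tmul (O.obj.obj V) (M := ((preL O X).obj A').obj V)
    (N := B.obj V) t n) h2).symm

lemma preπ_natB (A : PM (O.over X)) {B B' : PM O} (b : B ⟶ B') :
    (preL O X).map (A ◁ (preR O X).map b) ≫ preπ O X A B' = preπ O X A B ≫ ((preL O X).obj A ◁ b) := by
  refine preL_ext O X (fun V f m n => ?_)
  have h1 : (((preL O X).map (A ◁ (preR O X).map b)).app V).hom
      (of (R := RC O) (X := X) (A ⊗ (preR O X).obj B : PM (O.over X)) V f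
        (TensorProduct.tmul ((O.over X).obj.obj (op (Over.mk f))) (M := A.obj (op (Over.mk f)))
          (N := ((preR O X).obj B).obj (op (Over.mk f))) m n)) =
      (of (R := RC O) (X := X) (A ⊗ (preR O X).obj B' : PM (O.over X)) V f
        (TensorProduct.tmul ((O.over X).obj.obj (op (Over.mk f))) (M := A.obj (op (Over.mk f)))
          (N := ((preR O X).obj B').obj (op (Over.mk f))) m ((b.app V).hom n))) :=
    shMapApp_of (R := RC O) (X := X) (A ◁ (preR O X).map b) V f _
  refine Eq.trans (congrArg ((preπ O X A B').app V).hom h1) ?_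
  refine (preπ_of O X A B' V f m _).trans ?_
  exact (congrArg (((preL O X).obj A ◁ b).app V).hom (preπ_of O X A B V f m n)).symm

noncomputable instance (A : PM (O.over X)) (V : Cᵒᵖ) (f : V.unop ⟶ X) : Module (O.obj.obj V) (fib (R := RC O) (X := X) A V f) :=
  inferInstanceAs (Module ((RC O).obj V) (fib (R := RC O) (X := X) A V f))

noncomputable instance (A : PM O) (V : Cᵒᵖ) : Module (O.obj.obj V) (A.obj V) :=
  inferInstanceAs (Module ((RC O).obj V) (A.obj V))

lemma preπ_bijective (A : PM (O.over X)) (B : PM O) (V : Cᵒᵖ) :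
    Function.Bijective ((preπ O X A B).app V).hom := by
  refine bijective_aux (R := O.obj.obj V) (ι := (V.unop ⟶ X)) (fun f => fib (R := RC O) (X := X) A V f) (B.obj V)
    (fun f => fib (R := RC O) (X := X) (A ⊗ (preR O X).obj B : PM (O.over X)) V f) (fun f => AddEquiv.refl _)
    ((preπ O X A B).app V).hom.toAddMonoidHom (fun f x y => ?_)
  exact preπ_of O X A B V f x y

instance isIso_preπ (A : PM (O.over X)) (B : PM O) : IsIso (preπ O X A B) := by
  have h : ∀ V : Cᵒᵖ, IsIso ((preπ O X A B).app V) := fun V =>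
    (ConcreteCategory.isIso_iff_bijective _).2 (preπ_bijective O X A B V)
  exact (PresheafOfModules.isoMk (fun V => @asIso _ _ _ _ ((preπ O X A B).app V) (h V))
    (fun U V g => (preπ O X A B).naturality g)).isIso_hom

/-- the projection formula for presheaves -/
noncomputable def preπIso (A : PM (O.over X)) (B : PM O) :
    (preL O X).obj (A ⊗ (preR O X).obj B) ≅ (preL O X).obj A ⊗ B := asIso (preπ O X A B)

/-- Extension by zero commutes with sheafification. -/
noncomputable def extSh : shP (O.over X) ⋙ ModSite.extZero O X ≅ preL O X ⋙ shP O :=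
  ((shAdj (O.over X)).comp (ModSite.extZeroAdj O X)).leftAdjointUniq ((preAdj O X).comp (shAdj O))

section

variable (P : ModSite.Mod (O.over X)) (K : ModSite.Mod O)

/-- `sh(Q ⊗ K) ≅ sh(Q) ⊗ K` -/
noncomputable def shTens (Q : PM O) : (shP O).obj (Q ⊗ (toP O).obj K) ≅ (shP O).obj Q ⊗ K :=
  (Functor.Monoidal.μIso (shP O) Q ((toP O).obj K)).symm ≪≫
    whiskerLeftIso ((shP O).obj Q) ((asIso (shAdj O).counit).app K)

/-- `j_! P` for `P` a sheaf. -/
noncomputable def extIso : (shP O).obj ((preL O X).obj ((toP (O.over X)).obj P)) ≅ (ModSite.extZero O X).obj P :=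
  ((extSh O X).app _).symm ≪≫ (ModSite.extZero O X).mapIso ((asIso (shAdj (O.over X)).counit).app P)

/-- The projection formula. -/
noncomputable def projIso :
    (ModSite.extZero O X).obj (((ModSite.tensorBi (O.over X)).obj P).obj ((ModSite.restr O X).obj K)) ≅
      ((ModSite.tensorBi O).obj ((ModSite.extZero O X).obj P)).obj K :=
  (extSh O X).app ((toP (O.over X)).obj P ⊗ (preR O X).obj ((toP O).obj K)) ≪≫
    (shP O).mapIso (preπIso O X ((toP (O.over X)).obj P) ((toP O).obj K)) ≪≫
    shTens O K _ ≪≫ whiskerRightIso (extIso O X P) K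

end

lemma shTens_natK (Q : PM O) {K K' : ModSite.Mod O} (k : K ⟶ K') :
    (shP O).map (Q ◁ (toP O).map k) ≫ (shTens O K' Q).hom = (shTens O K Q).hom ≫ ((shP O).obj Q ◁ k) := by
  change (shP O).map (Q ◁ (toP O).map k) ≫ Functor.OplaxMonoidal.δ (shP O) Q _ ≫
    ((shP O).obj Q ◁ (shAdj O).counit.app K') = (Functor.OplaxMonoidal.δ (shP O) Q _ ≫
    ((shP O).obj Q ◁ (shAdj O).counit.app K)) ≫ ((shP O).obj Q ◁ k)
  rw [← Functor.OplaxMonoidal.δ_natural_right_assoc]
  rw [Category.assoc, ← MonoidalCategory.whiskerLeft_comp, ← MonoidalCategory.whiskerLeft_comp]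
  congr 2
  exact (shAdj O).counit.naturality k

lemma shTens_natQ {Q Q' : PM O} (q : Q ⟶ Q') (K : ModSite.Mod O) :
    (shP O).map (q ▷ (toP O).obj K) ≫ (shTens O K Q').hom = (shTens O K Q).hom ≫ ((shP O).map q ▷ K) := by
  change (shP O).map (q ▷ (toP O).obj K) ≫ Functor.OplaxMonoidal.δ (shP O) Q' _ ≫
    ((shP O).obj Q' ◁ (shAdj O).counit.app K) = (Functor.OplaxMonoidal.δ (shP O) Q _ ≫
    ((shP O).obj Q ◁ (shAdj O).counit.app K)) ≫ ((shP O).map q ▷ K)
  rw [← Functor.OplaxMonoidal.δ_natural_left_assoc]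
  rw [Category.assoc, ← whisker_exchange]
  rfl

lemma extIso_nat {P P' : ModSite.Mod (O.over X)} (p : P ⟶ P') :
    (shP O).map ((preL O X).map ((toP (O.over X)).map p)) ≫ (extIso O X P').hom =
      (extIso O X P).hom ≫ (ModSite.extZero O X).map p := by
  dsimp [extIso]
  have h := (extSh O X).inv.naturality ((toP (O.over X)).map p)
  have h' := (shAdj (O.over X)).counit.naturality p
  dsimp at h h'
  rw [reassoc_of% h, Category.assoc, ← Functor.map_comp, ← Functor.map_comp, h']

lemma projIso_natK (P : ModSite.Mod (O.over X)) {K K' : ModSite.Mod O} (k : K ⟶ K') :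
    (ModSite.extZero O X).map (((ModSite.tensorBi (O.over X)).obj P).map ((ModSite.restr O X).map k)) ≫
      (projIso O X P K').hom =
      (projIso O X P K).hom ≫ ((ModSite.tensorBi O).obj ((ModSite.extZero O X).obj P)).map k := by
  have h1 := (extSh O X).hom.naturality ((toP (O.over X)).obj P ◁ (preR O X).map ((toP O).map k))
  have h2 := congrArg (shP O).map (preπ_natB O X ((toP (O.over X)).obj P) ((toP O).map k))
  have h3 := shTens_natK O ((preL O X).obj ((toP (O.over X)).obj P)) k
  have h4 := whisker_exchange (extIso O X P).hom k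
  rw [Functor.map_comp, Functor.map_comp] at h2
  change _ ≫ (extSh O X).hom.app _ ≫ (shP O).map (preπ O X _ _) ≫ (shTens O K' _).hom ≫ ((extIso O X P).hom ▷ K') =
    ((extSh O X).hom.app _ ≫ (shP O).map (preπ O X _ _) ≫ (shTens O K _).hom ≫ ((extIso O X P).hom ▷ K)) ≫
      ((ModSite.extZero O X).obj P ◁ k)
  change (ModSite.extZero O X).map ((shP (O.over X)).map _) ≫ (extSh O X).hom.app _ = _ ≫ (shP O).map _ at h1
  erw [reassoc_of% h1, reassoc_of% h2, reassoc_of% h3]
  simp only [Category.assoc]
  erw [← h4]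

lemma projIso_natP {P P' : ModSite.Mod (O.over X)} (p : P ⟶ P') (K : ModSite.Mod O) :
    (ModSite.extZero O X).map (((ModSite.tensorBi (O.over X)).map p).app ((ModSite.restr O X).obj K)) ≫
      (projIso O X P' K).hom =
      (projIso O X P K).hom ≫ ((ModSite.tensorBi O).map ((ModSite.extZero O X).map p)).app K := by
  have h1 := (extSh O X).hom.naturality ((toP (O.over X)).map p ▷ (preR O X).obj ((toP O).obj K))
  have h2 := congrArg (shP O).map (preπ_natA O X ((toP (O.over X)).map p) ((toP O).obj K))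
  have h3 := shTens_natQ O ((preL O X).map ((toP (O.over X)).map p)) K
  have h4 := congrArg (· ▷ K) (extIso_nat O X p)
  rw [MonoidalCategory.comp_whiskerRight, MonoidalCategory.comp_whiskerRight] at h4
  rw [Functor.map_comp, Functor.map_comp] at h2
  change _ ≫ (extSh O X).hom.app _ ≫ (shP O).map (preπ O X _ _) ≫ (shTens O K _).hom ≫ ((extIso O X P').hom ▷ K) =
    ((extSh O X).hom.app _ ≫ (shP O).map (preπ O X _ _) ≫ (shTens O K _).hom ≫ ((extIso O X P).hom ▷ K)) ≫
      ((ModSite.extZero O X).map p ▷ K)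
  change (ModSite.extZero O X).map ((shP (O.over X)).map _) ≫ (extSh O X).hom.app _ = _ ≫ (shP O).map _ at h1
  erw [reassoc_of% h1, reassoc_of% h2, reassoc_of% h3]
  simp only [Category.assoc]
  erw [h4]

/-- **The projection formula for extension by zero**, as an isomorphism of bifunctors. -/
noncomputable def proj : (ModSite.tensorBi (O.over X) ⋙ (Functor.whiskeringLeft _ _ _).obj (ModSite.restr O X)) ⋙
    (Functor.whiskeringRight _ _ _).obj (ModSite.extZero O X) ≅ ModSite.extZero O X ⋙ ModSite.tensorBi O :=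
  NatIso.ofComponents (fun P => NatIso.ofComponents (fun K => projIso O X P K) (fun k => projIso_natK O X P k))
    (fun p => by
      ext K : 2
      exact projIso_natP O X p K)

end K294.ProjExt
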