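import Groth.Agent.ModSite.K294.ProjExt
import Groth.Agent.ModSite.K294.KFl
import Groth.Agent.Dcoh.CxProj
import Groth.Agent.Dcoh.KFlatSingle
import Groth.Agent.S3087
import Mathlib.CategoryTheory.Abelian.Exact
import Mathlib.Algebra.Homology.ShortComplex.ExactFunctor

/-!
# The projection formula for extension by zero, for complexes; restriction preserves K-flat complexes
-/

set_option autoImplicit false

open CategoryTheory MonoidalCategory Limits Opposite HomologicalComplex

universe u

namespace K294.ProjExtCx

open Groth.Agent Groth.Agent.Dcoh K294.KFl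

variable {C : Type u} [SmallCategory C] {J : GrothendieckTopology C} (O : Sheaf J CommRingCat.{u}) (U : C)

instance extZero_preservesFiniteLimits : PreservesFiniteLimits (ModSite.extZero O U) :=
  ((S3087.result J U (ModSite.ringSh O)).2 (ModSite.extZero O U) (ModSite.extZeroAdj O U)).1

instance extZero_preservesFiniteColimits : PreservesFiniteColimits (ModSite.extZero O U) :=
  ((S3087.result J U (ModSite.ringSh O)).2 (ModSite.extZero O U) (ModSite.extZeroAdj O U)).2.1

instance extZero_faithful : (ModSite.extZero O U).Faithful :=
  ((S3087.result J U (ModSite.ringSh O)).2 (ModSite.extZero O U) (ModSite.extZeroAdj O U)).2.2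

instance restr_additive : (ModSite.restr O U).Additive where
  map_add := rfl

instance extZero_additive : (ModSite.extZero O U).Additive := (ModSite.extZeroAdj O U).left_adjoint_additive

/-- The projection formula for complexes. -/
noncomputable def projCx : (ModSite.tensorCx (O.over U) ⋙ (Functor.whiskeringLeft _ _ _).obj
    ((ModSite.restr O U).mapHomologicalComplex (ComplexShape.up ℤ))) ⋙
      (Functor.whiskeringRight _ _ _).obj ((ModSite.extZero O U).mapHomologicalComplex (ComplexShape.up ℤ)) ≅
    (ModSite.extZero O U).mapHomologicalComplex (ComplexShape.up ℤ) ⋙ ModSite.tensorCx O :=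
  haveI (J : Type) : PreservesColimitsOfShape (Discrete J) (ModSite.extZero O U) :=
    (ModSite.extZeroAdj O U).leftAdjoint_preservesColimits.preservesColimitsOfShape
  CxProj.projIso (F := ModSite.tensorBi (O.over U)) (F' := ModSite.tensorBi O) (K294.ProjExt.proj O U)

lemma acyclic_extZero_iff (K : CochainComplex (ModSite.Mod (O.over U)) ℤ) :
    (((ModSite.extZero O U).mapHomologicalComplex (ComplexShape.up ℤ)).obj K).Acyclic ↔ K.Acyclic := by
  refine forall_congr' (fun i => ?_)
  exact CategoryTheory.ShortComplex.exact_map_iff_of_faithful (K.sc i) (ModSite.extZero O U)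

theorem isKFlat_restr (K : CochainComplex (ModSite.Mod O) ℤ) (hK : ModSite.IsKFlat K) :
    ModSite.IsKFlat (((ModSite.restr O U).mapHomologicalComplex (ComplexShape.up ℤ)).obj K) := by
  rw [isKFlat_iff]
  intro P hP
  rw [← acyclic_extZero_iff]
  exact KFlatSingle.acyclic_of_iso (((projCx O U).app P).app K).symm
    ((isKFlat_iff K).1 hK _ ((acyclic_extZero_iff O U P).2 hP))

end K294.ProjExtCx
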