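import Groth.Agent.ModSite.K294.AcycFlat
import Groth.Agent.Sga4h.TensLeftData

/-!
# Functors preserving K-flat complexes with flat terms

`G : Mod O ⥤ Mod O'` additive, commuting with countable colimits, preserving flat modules and short exact sequences
whose third term is flat.  Then `G` sends K-flat complexes with flat terms to K-flat complexes (with flat terms).
-/

set_option autoImplicit false
set_option backward.defeqAttrib.useBackward true
set_option backward.isDefEq.respectTransparency false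

universe v₁ v₂ u₁ u₂ u

namespace K294.PullKFlat

open CategoryTheory Category Limits HomologicalComplex CochainComplex MonoidalCategory
open Groth.Agent.Dcoh Groth.Agent.Dcoh.KFlatAbs K294.Flat K294.KFl K294.KFlat2 K294.AcycFlat K294.AbsFlat

section

variable {A : Type u₁} {B : Type u₂} [Category.{v₁} A] [Category.{v₂} B] [Abelian A] [Abelian B]

/-- the short exact sequence `0 → Z^n → K^n → Z^{n+1} → 0` of an acyclic complex -/
noncomputable abbrev cyc (K : CochainComplex A ℤ) (n : ℤ) : ShortComplex A :=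
  ShortComplex.mk (K.iCycles n) (K.toCycles n (n + 1)) (by
    rw [← cancel_mono (K.iCycles (n + 1))]; simp)

lemma shortExact_cyc {K : CochainComplex A ℤ} (hK : K.Acyclic) (n : ℤ) : (cyc K n).ShortExact where
  exact := by
    have h : (ShortComplex.mk (K.iCycles n) (K.d n (n + 1)) (by simp)).Exact :=
      ShortComplex.exact_of_f_is_kernel _ (K.cyclesIsKernel n (n + 1) (by simp))
    let φ : cyc K n ⟶ ShortComplex.mk (K.iCycles n) (K.d n (n + 1)) (by simp) :=
      { τ₁ := 𝟙 _
        τ₂ := 𝟙 _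
        τ₃ := K.iCycles (n + 1) }
    have : Epi φ.τ₁ := inferInstanceAs (Epi (𝟙 _))
    have : IsIso φ.τ₂ := inferInstanceAs (IsIso (𝟙 _))
    have : Mono φ.τ₃ := inferInstanceAs (Mono (K.iCycles (n + 1)))
    exact (ShortComplex.exact_iff_of_epi_of_isIso_of_mono φ).2 h
  mono_f := inferInstanceAs (Mono (K.iCycles n))
  epi_g := by
    have h := (HomologicalComplex.exactAt_iff_isZero_homology _ (n + 1)).1 (hK (n + 1))
    exact Preadditive.epi_of_isZero_cokernel' _ (K.homologyIsCokernel n (n + 1) (by simp)) h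

lemma acyclic_map (G : A ⥤ B) [G.Additive] {K : CochainComplex A ℤ}
    (hG : ∀ n, ((cyc K n).map G).ShortExact) :
    ((G.mapHomologicalComplex (ComplexShape.up ℤ)).obj K).Acyclic := by
  intro n
  obtain ⟨m, rfl⟩ : ∃ m, n = m + 1 := ⟨n - 1, by simp⟩
  rw [HomologicalComplex.exactAt_iff' _ m (m + 1) (m + 1 + 1) (by simp) (by simp)]
  have h1 := hG m
  have h2 := hG (m + 1)
  have h3 := hG (m + 1 + 1)
  let S₂ : ShortComplex B := ShortComplex.mk (G.map (K.d m (m + 1))) (G.map (K.toCycles (m + 1) (m + 1 + 1))) (by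
    rw [← G.map_comp, ← G.map_zero]
    congr 1
    rw [← cancel_mono (K.iCycles (m + 1 + 1))]; simp)
  let φ : S₂ ⟶ ((G.mapHomologicalComplex (ComplexShape.up ℤ)).obj K).sc' m (m + 1) (m + 1 + 1) :=
    { τ₁ := 𝟙 _
      τ₂ := 𝟙 _
      τ₃ := G.map (K.iCycles (m + 1 + 1))
      comm₁₂ := by dsimp [S₂]; simp
      comm₂₃ := by dsimp [S₂]; rw [← G.map_comp]; simp }
  let ψ : S₂ ⟶ (cyc K (m + 1)).map G :=
    { τ₁ := G.map (K.toCycles m (m + 1))
      τ₂ := 𝟙 _
      τ₃ := 𝟙 _
      comm₁₂ := by dsimp [S₂]; rw [← G.map_comp]; simp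
      comm₂₃ := by dsimp [S₂]; simp }
  have : Epi φ.τ₁ := inferInstanceAs (Epi (𝟙 _))
  have : IsIso φ.τ₂ := inferInstanceAs (IsIso (𝟙 _))
  have : Mono φ.τ₃ := h3.mono_f
  have : Epi ψ.τ₁ := h1.epi_g
  have : IsIso ψ.τ₂ := inferInstanceAs (IsIso (𝟙 _))
  have : Mono ψ.τ₃ := inferInstanceAs (Mono (𝟙 _))
  rw [← ShortComplex.exact_iff_of_epi_of_isIso_of_mono φ, ShortComplex.exact_iff_of_epi_of_isIso_of_mono ψ]
  exact h2.exact

end

variable {C : Type u} [SmallCategory C] {J : GrothendieckTopology C} {O : Sheaf J CommRingCat.{u}}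
  {D : Type u} [SmallCategory D] {K : GrothendieckTopology D} {O' : Sheaf K CommRingCat.{u}}

/-- If `E ⊗ M` is acyclic for all modules `M` then `E` is K-flat. -/
lemma isKFlat_of_acyclic_tensor (E : CochainComplex (ModSite.Mod O) ℤ)
    (hE : ∀ M : ModSite.Mod O,
      ((((ModSite.tensorBi O).flip.obj M).mapHomologicalComplex (ComplexShape.up ℤ)).obj E).Acyclic) :
    ModSite.IsKFlat E := by
  rw [isKFlat_iff]
  intro L _
  exact KFlatSingle.acyclic_of_iso (tensorCxIso E L)
    (Groth.Agent.Sga4h.TensLeftData.acyclic_tensor (ModSite.tensorBi O) E hE L)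

/-- an acyclic complex with flat cycles: tensor products are acyclic. -/
lemma isKFlat_of_cycles {E : CochainComplex (ModSite.Mod O) ℤ} (hE : E.Acyclic)
    (hfl : ∀ n, ModSite.IsFlat (E.cycles n)) : ModSite.IsKFlat E :=
  isKFlat_of_acyclic_tensor E (fun M => acyclic_map _ (fun n =>
    shortExact_tensor_flip (shortExact_cyc hE n) (hfl _) M))

variable (G : ModSite.Mod O ⥤ ModSite.Mod O') [G.Additive]
  (hG : ∀ M, ModSite.IsFlat M → ModSite.IsFlat (G.obj M))
  (hG' : ∀ S : ShortComplex (ModSite.Mod O), S.ShortExact → ModSite.IsFlat S.X₃ → (S.map G).ShortExact)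

include hG hG' in
/-- acyclic K-flat complexes with flat terms -/
lemma acyclic_case {E : CochainComplex (ModSite.Mod O) ℤ} (hE : ModSite.IsKFlat E) (hac : E.Acyclic)
    (hfl : ∀ n, ModSite.IsFlat (E.X n)) :
    ModSite.IsKFlat ((G.mapHomologicalComplex (ComplexShape.up ℤ)).obj E) := by
  have h1 := isFlat_cycles hE hac hfl
  refine isKFlat_of_acyclic_tensor _ (fun M => ?_)
  have h2 (n : ℤ) := hG' _ (shortExact_cyc hac n) (h1 (n + 1))
  have h3 (n : ℤ) := shortExact_tensor_flip (h2 n) (hG _ (h1 (n + 1))) M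
  exact acyclic_map (G ⋙ (ModSite.tensorBi O').flip.obj M) (K := E) h3

/-- Complexes with zero differential and flat terms. -/
lemma isKFlat_zd (F : ℤ → ModSite.Mod O) (hF : ∀ n, ModSite.IsFlat (F n)) : ModSite.IsKFlat (CellStep.zd F) := by
  rw [isKFlat_iff_kfl]
  exact KFlatZd.kfl_zd (T := ModSite.tensorBi O) F (fun n => preservesHomology_flip _ (hF n))

/-- `G` of a complex with zero differential -/
noncomputable def mapZd (F : ℤ → ModSite.Mod O) :
    (G.mapHomologicalComplex (ComplexShape.up ℤ)).obj (CellStep.zd F) ≅ CellStep.zd (fun n => G.obj (F n)) :=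
  HomologicalComplex.Hom.isoOfComponents (fun n => Iso.refl _)

/-- `G` commutes with mapping cones. -/
noncomputable def mapCone {K L : CochainComplex (ModSite.Mod O) ℤ} (φ : K ⟶ L) :
    (G.mapHomologicalComplex (ComplexShape.up ℤ)).obj (mappingCone φ) ≅
      mappingCone ((G.mapHomologicalComplex (ComplexShape.up ℤ)).map φ) :=
  mappingCone.mapHomologicalComplexIso φ G

/-- the class of complexes used below -/
def good : ObjectProperty (CochainComplex (ModSite.Mod O) ℤ) := fun E =>
  ModSite.IsKFlat E ∧ (∀ n, ModSite.IsFlat (E.X n)) ∧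
    ModSite.IsKFlat ((G.mapHomologicalComplex (ComplexShape.up ℤ)).obj E)

include hG in
lemma good_zd (F : ℤ → ModSite.Mod O) (hF : ∀ n, ModSite.IsFlat (F n)) : good G (CellStep.zd F) :=
  ⟨isKFlat_zd F hF, hF, isKFlat_of_iso (mapZd G F).symm (isKFlat_zd _ (fun n => hG _ (hF n)))⟩

lemma good_cone {K L : CochainComplex (ModSite.Mod O) ℤ} (φ : K ⟶ L) (hK : good G K) (hL : good G L) :
    good G (mappingCone φ) :=
  ⟨isKFlat_mappingCone φ hK.1 hL.1,
    KFlatZd.prop_mappingCone_X (P := flatP O) (fun _ _ => isFlat_biprod) φ hK.2.1 hL.2.1,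
    isKFlat_of_iso (mapCone G φ).symm (isKFlat_mappingCone _ hK.2.2 hL.2.2)⟩

lemma good_colim [PreservesColimitsOfShape ℕ G] (S : ℕ ⥤ CochainComplex (ModSite.Mod O) ℤ) (cc : Cocone S)
    (hcc : IsColimit cc) (hS : ∀ j, good G (S.obj j)) : good G cc.pt := by
  have h1 : ModSite.IsKFlat cc.pt := isKFlat_of_isColimit hcc (fun n => (hS n).1)
  have h2 : ∀ n, ModSite.IsFlat (cc.pt.X n) :=
    KFlatZd.prop_pt_X (P := flatP O) isFlat_colimit_nat S cc hcc (fun n => (hS n).2.1)
  have h3 : IsColimit ((G.mapHomologicalComplex (ComplexShape.up ℤ)).mapCocone cc) := isColimitOfPreserves _ hcc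
  have h4 : ModSite.IsKFlat ((G.mapHomologicalComplex (ComplexShape.up ℤ)).mapCocone cc).pt :=
    isKFlat_of_isColimit (S := S ⋙ G.mapHomologicalComplex (ComplexShape.up ℤ))
      (c := (G.mapHomologicalComplex (ComplexShape.up ℤ)).mapCocone cc) h3 (fun n => (hS n).2.2)
  exact ⟨h1, h2, h4⟩

include hG hG' in
/-- **`G` preserves K-flat complexes with flat terms.** -/
theorem isKFlat_map [PreservesColimitsOfShape ℕ G] {L : CochainComplex (ModSite.Mod O) ℤ}
    (hL : ModSite.IsKFlat L) (hfl : ∀ n, ModSite.IsFlat (L.X n)) :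
    ModSite.IsKFlat ((G.mapHomologicalComplex (ComplexShape.up ℤ)).obj L) := by
  obtain ⟨N, c, hc, -, h⟩ := CellRes.exists_resolution (P := flatP O) enough_flatP L
  have hN : good G N := h (good G) (good_zd G hG)
    (fun F hF K' φ hK' => good_cone G φ (good_zd G hG F hF) hK') (good_colim G)
  have h1 : ModSite.IsKFlat ((G.mapHomologicalComplex (ComplexShape.up ℤ)).obj (mappingCone c)) :=
    acyclic_case G hG hG' (isKFlat_mappingCone c hN.1 hL)
      ((Groth.Agent.Dcoh.DerHo.quasiIso_iff_acyclic_mappingCone c).1 hc)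
      (KFlatZd.prop_mappingCone_X (P := flatP O) (fun _ _ => isFlat_biprod) c hN.2.1 hfl)
  exact isKFlat_of_mappingCone₂ _ hN.2.2 (isKFlat_of_iso (mapCone G c) h1)

end K294.PullKFlat
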