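import Groth.Agent.CohtopB.TestSysLim
import Groth.Agent.SiteCmp.K578.CohDev

/-!
# Derived limits of systems with eventually constant cohomology objects, for an abstract test system

Abstract form of: `H^j(R lim K_n) = H^j(K_N)` for `N` large, if the `K_n` are bounded below with cohomology in a
weak Serre subcategory whose objects have bounded cohomology on a cofinal system of coverings.
-/

set_option autoImplicit false

universe w v u w' v' u'

open CategoryTheory CategoryTheory.Limits CategoryTheory.Pretriangulated DerivedCategory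

namespace K294.RlimConst

open Groth.Agent.CohtopB Groth.Agent.CohtopB.TestSys

section Vanish

variable {A : Type u'} [Category.{v'} A] [Abelian A] [HasDerivedCategory.{w} A] [HasExt.{w'} A]

/-- `Hom(X[0], M[m]) = 0` for `M` in degrees `[a, b]` with `Ext^k(X, H^j(M)) = 0` for `k > d`, if `b + d < m`. -/
lemma hom_eq_zero_of_bounded (X : A) (a b m : ℤ) (d : ℕ) (hm : b + d < m) :
    ∀ (M : DerivedCategory A), M.IsGE a → M.IsLE b →
      (∀ (k : ℕ) (j : ℤ), d < k → Subsingleton (Abelian.Ext.{w'} X ((homologyFunctor A j).obj M) k)) →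
      ∀ z : (singleFunctor A 0).obj X ⟶ M⟦m⟧, z = 0 := by
  by_cases hab : b < a
  · intro M h1 h2 _ z
    have hM : IsZero M := by
      rw [IsZero.iff_id_eq_zero]
      exact TStructure.t.zero_of_isLE_of_isGE _ b a hab h2 h1
    exact ((shiftFunctor _ m).map_isZero hM).eq_of_tgt _ _
  · obtain ⟨n, hn⟩ := Int.eq_ofNat_of_zero_le (show 0 ≤ b - a by lia)
    clear hab
    induction n generalizing b with
    | zero =>
      have hb : b = a := by simpa [sub_eq_zero] using hn
      subst hb
      intro M h1 h2 hE z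
      refine DTrunc.hom_eq_zero_of_concentrated.{w, v', u', w'} X M b m (fun k hk => ?_) z
      exact hE k b (by omega)
    | succ n ih =>
      intro M h1 h2 hE z
      refine TriLES.eq_zero₂ (TStructure.t.triangleLTGE_distinguished b M) _ m ?_ ?_ z
      · have h3 : TStructure.t.IsGE ((TStructure.t.truncLT b).obj M) a := inferInstance
        have h4 : TStructure.t.IsLE ((TStructure.t.truncLT b).obj M) (b - 1) := inferInstance
        refine ih (b - 1) (by lia) (by push_cast at hn ⊢; lia) _ h3 h4 ?_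
        intro p j hp
        by_cases hj : j < b
        · have := DTrunc.isIso_homology_map_truncLTι M b j hj
          exact subsingleton_ext_of_iso X
            (asIso ((homologyFunctor A j).map ((TStructure.t.truncLTι b).app M))) p (hE p j hp)
        · exact subsingleton_ext_of_isZero X (isZero_of_isLE _ (b - 1) j (by lia)) p
      · have h3 : TStructure.t.IsGE ((TStructure.t.truncGE b).obj M) b := inferInstance
        have h4 : TStructure.t.IsLE ((TStructure.t.truncGE b).obj M) b := inferInstance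
        intro z
        refine DTrunc.hom_eq_zero_of_concentrated.{w, v', u', w'} X ((TStructure.t.truncGE b).obj M) b m
          (fun k hk => ?_) z
        have := DTrunc.isIso_homology_map_truncGEπ M b b le_rfl
        exact subsingleton_ext_of_iso X
          (asIso ((homologyFunctor A b).map ((TStructure.t.truncGEπ b).app M))).symm k (hE k b (by omega))

/-- `Hom(X[0], M[m]) = 0` for `M` bounded below with `Ext^k(X, H^j(M)) = 0` for `k > d`, if `H^j(M) = 0` for
`m - d ≤ j ≤ m`. -/
lemma hom_eq_zero (X : A) (m : ℤ) (d : ℕ) (M : DerivedCategory A) (hM : ∃ a : ℤ, M.IsGE a)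
    (hE : ∀ (k : ℕ) (j : ℤ), d < k → Subsingleton (Abelian.Ext.{w'} X ((homologyFunctor A j).obj M) k))
    (h0 : ∀ j : ℤ, m - d ≤ j → j ≤ m → IsZero ((homologyFunctor A j).obj M))
    (z : (singleFunctor A 0).obj X ⟶ M⟦m⟧) : z = 0 := by
  obtain ⟨a, ha⟩ := hM
  refine TriLES.eq_zero₂ (TStructure.t.triangleLTGE_distinguished (m - d) M) _ m ?_ ?_ z
  · have h3 : TStructure.t.IsGE ((TStructure.t.truncLT (m - d)).obj M) a := inferInstance
    have h4 : TStructure.t.IsLE ((TStructure.t.truncLT (m - d)).obj M) (m - d - 1) := inferInstance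
    refine hom_eq_zero_of_bounded.{w, w', v', u'} X a (m - d - 1) m d (by lia) _ h3 h4 ?_
    intro p j hp
    by_cases hj : j < m - d
    · have := DTrunc.isIso_homology_map_truncLTι M (m - d) j hj
      exact subsingleton_ext_of_iso X
        (asIso ((homologyFunctor A j).map ((TStructure.t.truncLTι (m - d)).app M))) p (hE p j hp)
    · exact subsingleton_ext_of_isZero X (isZero_of_isLE _ (m - d - 1) j (by lia)) p
  · intro z
    have h5 : TStructure.t.IsGE ((TStructure.t.truncGE (m - d)).obj M) (m - d) := inferInstance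
    have h3 : ((TStructure.t.truncGE (m - d)).obj M).IsGE (m + 1) := by
      rw [isGE_iff]
      intro i hi
      by_cases hi' : m - d ≤ i
      · have := DTrunc.isIso_homology_map_truncGEπ M (m - d) i hi'
        exact (h0 i hi' (by lia)).of_iso
          (asIso ((homologyFunctor A i).map ((TStructure.t.truncGEπ (m - d)).app M))).symm
      · exact isZero_of_isGE _ (m - d) i (by lia)
    exact @DTrunc.hom_eq_zero_of_isGE _ _ _ _ X ((TStructure.t.truncGE (m - d)).obj M) (m + 1) m h3 (by lia) z

end Vanish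

section Step

variable {A : Type u'} [Category.{v'} A] [Abelian A] [HasDerivedCategory.{w} A]
  (S : ObjectProperty A) [WSerre.IsWeakSerre S]

/-- the cone of a morphism of objects with cohomology in a weak Serre subcategory -/
lemma cohIn_cone {T : Triangle (DerivedCategory A)} (hT : T ∈ distTriang _) (h₁ : WSerre.cohIn S T.obj₁)
    (h₂ : WSerre.cohIn S T.obj₂) : WSerre.cohIn S T.obj₃ :=
  K578.CohDev.cohIn_ext₂ S T.rotate (rot_of_distTriang T hT) h₂ (K578.CohDev.cohIn_shift S _ 1 h₁)

variable {K K' : DerivedCategory A} (t : K ⟶ K') (hK : WSerre.cohInPlus S K) (hK' : WSerre.cohInPlus S K')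

include hK hK' in
/-- A morphism inducing isomorphisms on `H^j` for `m - 1 - d ≤ j ≤ m + 1` induces a bijection on
`Hom(X[0], -[m])` if `Ext^k(X, F) = 0` for `k > d` and `F` in `S`. -/
theorem bijective_step [HasExt.{w'} A] (X : A) (m : ℤ) (d : ℕ)
    (hX : ∀ F : A, S F → ∀ k : ℕ, d < k → Subsingleton (Abelian.Ext.{w'} X F k))
    (hiso : ∀ j : ℤ, m - 1 - d ≤ j → j ≤ m + 1 → IsIso ((homologyFunctor A j).map t)) :
    Function.Bijective (fun x : (singleFunctor A 0).obj X ⟶ K⟦m⟧ => x ≫ t⟦m⟧') := by
  obtain ⟨M, g, h, hT⟩ := distinguished_cocone_triangle t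
  have hM : WSerre.cohIn S M := cohIn_cone S hT hK.1 hK'.1
  have hM' : ∃ a : ℤ, M.IsGE a := by
    obtain ⟨a, ha⟩ := hK.2
    obtain ⟨b, hb⟩ := hK'.2
    refine ⟨min b (a - 1), ?_⟩
    rw [isGE_iff]
    intro i hi
    have h1 : IsZero ((homologyFunctor A i).obj K') := @isZero_of_isGE _ _ _ _ K' b i (by omega) hb
    have h2 : IsZero ((homologyFunctor A (i + 1)).obj K) := @isZero_of_isGE _ _ _ _ K a (i + 1) (by omega) ha
    exact (HomologySequence.exact₃ _ hT i (i + 1) rfl).isZero_of_both_zeros (h1.eq_of_src _ _) (h2.eq_of_tgt _ _)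
  have hz : ∀ j : ℤ, m - 1 - d ≤ j → j ≤ m → IsZero ((homologyFunctor A j).obj M) := by
    intro j h1 h2
    have i1 := hiso j h1 (by omega)
    have i2 := hiso (j + 1) (by omega) (by omega)
    have e1 := (HomologySequence.epi_homologyMap_mor₁_iff _ hT j).1 (inferInstanceAs (Epi ((homologyFunctor A j).map t)))
    have e2 := (HomologySequence.mono_homologyMap_mor₁_iff _ hT j (j + 1) rfl).1
      (inferInstanceAs (Mono ((homologyFunctor A (j + 1)).map t)))
    exact (HomologySequence.exact₃ _ hT j (j + 1) rfl).isZero_of_both_zeros e1 e2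
  constructor
  · refine TriLES.injective_mor₁ hT _ (m - 1) m (by lia) (fun z => ?_)
    exact hom_eq_zero.{w, w', v', u'} X (m - 1) d M hM' (fun k j hk => hX _ (hM j) k hk)
      (fun j h1 h2 => hz j (by omega) (by omega)) z
  · refine TriLES.surjective_mor₁ hT _ m (fun z => ?_)
    exact hom_eq_zero.{w, w', v', u'} X m d M hM' (fun k j hk => hX _ (hM j) k hk)
      (fun j h1 h2 => hz j (by omega) (by omega)) z

end Step

/-- extension of an element to a compatible family -/
lemma exists_family (A : ℕ → Type v) (t : ∀ n, A (n + 1) → A n) (N : ℕ)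
    (h : ∀ n, N ≤ n → Function.Surjective (t n)) (x : A N) :
    ∃ y : ∀ n, A n, y N = x ∧ ∀ n, t n (y (n + 1)) = y n := by
  induction N generalizing A with
  | zero =>
    exact ⟨fun n => Nat.rec (motive := A) x (fun n yn => (h n (Nat.zero_le _) yn).choose) n, rfl,
      fun n => (h n (Nat.zero_le _) _).choose_spec⟩
  | succ N ih =>
    obtain ⟨y, hy0, hy⟩ := ih (fun n => A (n + 1)) (fun n => t (n + 1)) (fun n hn => h (n + 1) (by omega)) x
    refine ⟨fun n => Nat.casesOn n (t 0 (y 0)) y, hy0, fun n => ?_⟩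
    cases n with
    | zero => rfl
    | succ n => exact hy n

section Site

variable {A : Type (u' + 1)} [Category.{u'} A] [Abelian A] {C : Type u} [Category.{v} C]
  {J : GrothendieckTopology C} {P : C ⥤ A} (hP : TestSystem J P)

include hP

/-- A local criterion for isomorphisms. -/
theorem isIso_of_local {F G : A} (φ : F ⟶ G) (B : C → Prop) (hB : ∀ U : C, gen (⊤ : Sieve U) B ∈ J U)
    (hinj : ∀ V, B V → ∀ s : P.obj V ⟶ F, s ≫ φ = 0 → s = 0)
    (hsurj : ∀ V, B V → ∀ s : P.obj V ⟶ G, ∃ T ∈ J V, ∀ {W : C} (g : W ⟶ V), T g →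
      ∃ z : P.obj W ⟶ F, z ≫ φ = P.map g ≫ s) : IsIso φ := by
  have hmono : Mono φ := by
    rw [Preadditive.mono_iff_isZero_kernel]
    refine hP.isZero _ fun U x => ?_
    refine eq_zero_of_gen hP ⊤ B (hB U) x fun {Y} f _ hY => ?_
    rw [← cancel_mono (kernel.ι φ), zero_comp]
    apply hinj Y hY
    simp
  have hepi : Epi φ := by
    rw [Preadditive.epi_iff_isZero_cokernel]
    refine hP.isZero _ fun U x => ?_
    obtain ⟨T, hT, hl⟩ := lift' hP (cokernel.π φ) x
    refine eq_zero_of_gen hP T B (gen_mem_of_cover B hB T hT) x fun {Y} f hf hY => ?_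
    obtain ⟨y, hy⟩ := hl f hf
    obtain ⟨T', hT', h'⟩ := hsurj Y hY y
    refine hP.joint_epi T' hT' _ fun {W} g hg => ?_
    obtain ⟨z, hz⟩ := h' g hg
    rw [← hy, ← Category.assoc, ← hz, Category.assoc, cokernel.condition, comp_zero]
  exact isIso_of_mono_of_epi φ

variable [HasDerivedCategory.{w} A]

/-- **Derived limits with eventually constant cohomology.** -/
theorem isIso_homology_rlim [HasExt.{w'} A] (S : ObjectProperty A) [WSerre.IsWeakSerre S]
    (B : C → Prop) (hB : ∀ U : C, gen (⊤ : Sieve U) B ∈ J U)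
    (hA : ∀ V, B V → ∃ d : ℕ, ∀ T ∈ J V, gen T (fun Y => ∀ F : A, S F → ∀ k : ℕ, d < k →
      Subsingleton (Abelian.Ext.{w'} (P.obj Y) F k)) ∈ J V)
    (K : ℕ → DerivedCategory A) (t : ∀ n, K (n + 1) ⟶ K n) [HasProduct K]
    (hK : ∀ n, WSerre.cohInPlus S (K n))
    (hconst : ∀ j : ℤ, ∃ n₀ : ℕ, ∀ n, n₀ ≤ n → IsIso ((homologyFunctor A j).map (t n)))
    (L : DerivedCategory A) (a : ∀ n, L ⟶ K n) (hL : CohCx.IsRlimVia K t L a) (j : ℤ) :
    ∃ n₀ : ℕ, ∀ n, n₀ ≤ n → IsIso ((homologyFunctor A j).map (a n)) := by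
  choose n₀ hn₀ using hconst
  refine ⟨n₀ j, fun n hn => ?_⟩
  have hcomp := rlimVia_comp hL
  -- transitions from `n + k` to `n` are isomorphisms on `H^j`
  have htrans : ∀ k, IsIso ((homologyFunctor A j).map (CohCx.transition K t n k)) := fun k =>
    TruncTower.transition_induction K t (fun f => IsIso ((homologyFunctor A j).map f))
      (fun X => inferInstance)
      (fun f g hf hg => by rw [CategoryTheory.Functor.map_comp]; exact IsIso.comp_isIso' hf hg) n
      (fun k hk => hn₀ j k (hn.trans hk)) k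
  -- the essential statement, at a large stage depending on `V`
  have key : ∀ V, B V → ∃ k : ℕ,
      (∀ s : P.obj V ⟶ (homologyFunctor A j).obj L, s ≫ (homologyFunctor A j).map (a (n + k)) = 0 → s = 0) ∧
      (∀ s : P.obj V ⟶ (homologyFunctor A j).obj (K (n + k)), ∃ T ∈ J V, ∀ {W : C} (g : W ⟶ V), T g →
        ∃ z : P.obj W ⟶ (homologyFunctor A j).obj L,
          z ≫ (homologyFunctor A j).map (a (n + k)) = P.map g ≫ s) := by
    intro V hV
    obtain ⟨d, hd⟩ := hA V hV
    -- a stage from which the relevant cohomology objects are constant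
    obtain ⟨k, hk⟩ : ∃ k : ℕ, ∀ i : ℤ, j - 2 - d ≤ i → i ≤ j + 1 → n₀ i ≤ n + k := by
      have hfin : ∀ e : ℕ, ∃ M : ℕ, ∀ i : ℤ, j + 1 - e ≤ i → i ≤ j + 1 → n₀ i ≤ M := by
        intro e
        induction e with
        | zero => exact ⟨n₀ (j + 1), fun i h1 h2 => by
            obtain rfl : i = j + 1 := by push_cast at h1; omega
            exact le_rfl⟩
        | succ e ih =>
          obtain ⟨M, hM⟩ := ih
          refine ⟨max M (n₀ (j + 1 - ((e + 1 : ℕ) : ℤ))), fun i h1 h2 => ?_⟩
          by_cases hi : j + 1 - e ≤ i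
          · exact (hM i hi h2).trans (le_max_left _ _)
          · obtain rfl : i = j + 1 - ((e + 1 : ℕ) : ℤ) := by push_cast at h1 ⊢; omega
            exact le_max_right _ _
      obtain ⟨M, hM⟩ := hfin (d + 3)
      refine ⟨M, fun i h1 h2 => ?_⟩
      have : n₀ i ≤ M := hM i (by push_cast; omega) h2
      omega
    have hstep : ∀ (Y : C), (∀ F : A, S F → ∀ k : ℕ, d < k → Subsingleton (Abelian.Ext.{w'} (P.obj Y) F k)) →
        ∀ m : ℤ, (m = j ∨ m = j - 1) → ∀ l, n + k ≤ l →
          Function.Bijective (fun x : (singleFunctor A 0).obj (P.obj Y) ⟶ (K (l + 1))⟦m⟧ => x ≫ (t l)⟦m⟧') := by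
      intro Y hY m hm l hl
      refine bijective_step.{w, w', u', u' + 1} S (t l) (hK _) (hK _) (P.obj Y) m d hY (fun i h1 h2 => ?_)
      exact hn₀ i l ((hk i (by omega) (by omega)).trans hl)
    refine ⟨k, ?_, ?_⟩
    · refine injective_of_rlim hP hL V j (n + k) fun T hT => ?_
      refine J.superset_covering (gen_mono T fun Y hY => ?_) (hd T hT)
      refine ⟨?_, fun k' => ?_⟩
      · exact TruncTower.limOneIsZero_of_eventually_surjective _ _ (n + k) fun l hl =>
          (hstep Y hY (j - 1) (Or.inr rfl) l hl).2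
      · exact TruncTower.injective_transition _ K t j (n + k) (fun l hl => (hstep Y hY j (Or.inl rfl) l hl).1) k'
    · intro s
      obtain ⟨T, hT, hl⟩ := loc_surj hP s
      refine ⟨_, hd T hT, ?_⟩
      rintro W g ⟨Y, r, f, rfl, hTf, hY⟩
      obtain ⟨x, hx⟩ := hl f hTf
      -- lift `x` to a compatible family
      have hbij := hstep Y hY j (Or.inl rfl)
      obtain ⟨y', hy'0, hy'⟩ := exists_family (fun i => (singleFunctor A 0).obj (P.obj Y) ⟶ (K i)⟦j⟧)
        (fun i x => x ≫ (t i)⟦j⟧') (n + k) (fun l hl => (hbij l hl).2) x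
      obtain ⟨z, hz⟩ := RlimHom.exists_lift hL _ j y' hy'
      refine ⟨P.map r ≫ Can.can z, ?_⟩
      rw [Category.assoc, ← Can.can_postcomp, hz, hy'0, hx, P.map_comp, Category.assoc]
  refine isIso_of_local hP _ B hB (fun V hV s hs => ?_) (fun V hV s => ?_)
  · obtain ⟨k, h1, -⟩ := key V hV
    apply h1
    have := htrans k
    rw [← cancel_mono ((homologyFunctor A j).map (CohCx.transition K t n k)), zero_comp, Category.assoc,
      ← Functor.map_comp, comp_transition hcomp, hs]
  · obtain ⟨k, -, h2⟩ := key V hV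
    have := htrans k
    obtain ⟨T, hT, h3⟩ := h2 (s ≫ inv ((homologyFunctor A j).map (CohCx.transition K t n k)))
    refine ⟨T, hT, fun {W} g hg => ?_⟩
    obtain ⟨z, hz⟩ := h3 g hg
    refine ⟨z, ?_⟩
    rw [← comp_transition hcomp n k, Functor.map_comp, ← Category.assoc, hz]
    simp

end Site

end K294.RlimConst
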